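import Cfsg.Agent.H83.ThOut.Invol
import Cfsg.Agent.S2119

/-!
Every automorphism of the involution centraliser of the presented Thompson group fixing its
central involution is inner.
-/

set_option autoImplicit false

namespace Cfsg.Agent.H83.ThOut

open Cfsg.Spor Cfsg.Agent.H32 ThRep
open Cfsg.Agent.H40.Th (CC cg QQ)
open Cfsg.Agent.H45 (evalW sig)
open Equiv (Perm)

attribute [local irreducible] ThRep.gm ThRep.gi ThRep.mat ThRep.rep248 ThRep.chk ThRep.okMat
  ThRep.idN

theorem Ctx.vv_add256 (h : Ctx) {n : ℕ} (hn : n < 512) : vv (n ^^^ 256) = cg .a * vv n :=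
  val_flip h.frame hn

/-- conjugation inside the normal 2-subgroup changes at most the sign -/
theorem Ctx.conj_QQ (h : Ctx) {r v : CC} (hr : r ∈ QQ) (hv : v ∈ QQ) :
    r⁻¹ * v * r = v ∨ r⁻¹ * v * r = cg .a * v := by
  have hl := H40.Th.local_rels h.a_ne
  have := h.finite
  have hK : hl.K = QQ := by
    refine Subgroup.eq_of_le_of_card_ge ((Subgroup.closure_le _).mpr ?_)
      (by rw [h.card_QQ]; exact hl.card_K_ge)
    rintro _ ⟨i, rfl⟩
    show hl.q (i : ℕ) ∈ QQ
    rw [← qv_eq h.a_ne i i.2]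
    exact qv_mem_QQ i i.2
  rcases hl.comm_or (hK ▸ hv) (hK ▸ hr) with e | e
  · left; rw [mul_assoc, e, inv_mul_cancel_left]
  · right
    rw [mul_assoc, e, ← mul_assoc r⁻¹, H40.Th.A_central r⁻¹, mul_assoc, inv_mul_cancel_left]

/-- the image of the normal 2-subgroup is itself -/
theorem Ctx.map_QQ (h : Ctx) (φ : MulAut CC) {x : CC} (hx : x ∈ QQ) : φ x ∈ QQ := by
  have := h.finite
  rw [← piC_eq_one]
  let N : Subgroup (alternatingGroup (Fin 9)) :=
    ((QQ.map φ.toMonoidHom).map piC).subgroupOf (alternatingGroup (Fin 9))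
  haveI hnQ : (QQ.map φ.toMonoidHom).Normal :=
    Subgroup.Normal.map inferInstance _ φ.surjective
  haveI : N.Normal := by
    refine ⟨fun n hn g => ?_⟩
    obtain ⟨y, hy, hyn⟩ := Subgroup.mem_subgroupOf.1 hn
    have hg : (g : Perm (Fin 9)) ∈ piC.range := by rw [piC_range]; exact g.2
    obtain ⟨w, hw⟩ := hg
    exact Subgroup.mem_subgroupOf.2 ⟨w * y * w⁻¹, hnQ.conj_mem y hy w, by
      rw [map_mul, map_mul, map_inv, hw, hyn]; rfl⟩
  haveI := alternatingGroup.isSimpleGroup (α := Fin 9) (by simp)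
  rcases (inferInstance : N.Normal).eq_bot_or_eq_top with hN | hN
  · have hmem : (⟨piC (φ x), piC_range ▸ ⟨φ x, rfl⟩⟩ : alternatingGroup (Fin 9)) ∈ N :=
      Subgroup.mem_subgroupOf.2 ⟨φ x, ⟨x, hx, rfl⟩, rfl⟩
    rw [hN, Subgroup.mem_bot] at hmem
    exact congrArg Subtype.val hmem
  · exfalso
    have hle : alternatingGroup (Fin 9) ≤ (QQ.map φ.toMonoidHom).map piC := by
      intro g hg
      have : (⟨g, hg⟩ : alternatingGroup (Fin 9)) ∈ N := hN ▸ Subgroup.mem_top _
      exact Subgroup.mem_subgroupOf.1 this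
    have h1 := Subgroup.card_dvd_of_le hle
    have h2 := (Subgroup.card_map_dvd (QQ.map φ.toMonoidHom) piC).trans
      (Subgroup.card_map_dvd QQ φ.toMonoidHom)
    have h3 := h1.trans h2
    rw [h.card_QQ, H40.Th.card_alt_nine] at h3
    norm_num at h3

open Classical in
/-- the induced automorphism is conjugation by a permutation -/
theorem Ctx.exists_perm (h : Ctx) (φ : MulAut CC) :
    ∃ σ : Perm (Fin 9), ∀ x, piC (φ x) = σ * piC x * σ⁻¹ := by
  have := h.finite
  let f : CC →* alternatingGroup (Fin 9) := piC.codRestrict _ fun x => piC_range ▸ ⟨x, rfl⟩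
  have hf : Function.Surjective f := by
    rintro ⟨g, hg⟩
    have : g ∈ piC.range := by rw [piC_range]; exact hg
    obtain ⟨x, hx⟩ := this
    exact ⟨x, Subtype.ext hx⟩
  have hker : f.ker ≤ (f.comp φ.toMonoidHom).ker := by
    intro x hx
    exact Subtype.ext (piC_eq_one.2 (h.map_QQ φ (piC_eq_one.1 (congrArg Subtype.val hx))))
  let β : alternatingGroup (Fin 9) →* alternatingGroup (Fin 9) :=
    f.liftOfSurjective hf ⟨f.comp φ.toMonoidHom, hker⟩
  have hβ : ∀ x, β (f x) = f (φ x) := fun x => MonoidHom.liftOfRightInverse_comp_apply _ _ _ _ x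
  have hsur : Function.Surjective β := fun g => by
    obtain ⟨x, rfl⟩ := hf g
    exact ⟨f (φ.symm x), by rw [hβ, MulEquiv.apply_symm_apply]⟩
  let β' : MulAut (alternatingGroup (Fin 9)) :=
    MulEquiv.ofBijective β ⟨Finite.injective_iff_surjective.2 hsur, hsur⟩
  obtain ⟨σ, hσ⟩ := (S2119.result 9 (by norm_num) (by norm_num)).2 β'
  refine ⟨σ, fun x => ?_⟩
  have h1 : (MulAut.conjNormal σ (f x) : Perm (Fin 9)) = (β' (f x) : Perm (Fin 9)) := by rw [hσ]
  rw [MulAut.conjNormal_apply] at h1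
  exact (congrArg Subtype.val (hβ x)).symm.trans h1.symm

/-- a fixed vector of the first word -/
def wX : List ℕ := [2, 5, 1, 5, 3]

/-- the second word -/
def wY : List ℕ := [1, 2, 3]

set_option maxRecDepth 100000 in
theorem wX_fix : actW wX 3 = 3 ∨ actW wX 3 = 259 := by decide +kernel

set_option maxRecDepth 100000 in
theorem wY_fix : ∀ m < 512, actW wY m = m ∨ actW wY m = m ^^^ 256 → m = 0 ∨ m = 256 := by
  decide +kernel

set_option maxRecDepth 100000 in
theorem wXY : evalW pL wY = Equiv.swap (0 : Fin 9) 1 * evalW pL wX * (Equiv.swap (0 : Fin 9) 1)⁻¹ := by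
  decide +kernel

set_option maxRecDepth 100000 in
theorem se_fix : ∀ n < 512, (act (img 2) n = n ∨ act (img 2) n = n ^^^ 256) →
    (act (img 3) n = n ∨ act (img 3) n = n ^^^ 256) → n = 0 ∨ n = 256 ∨ n = 1 ∨ n = 257 := by
  decide +kernel

set_option maxRecDepth 100000 in
theorem orb_pow : ∀ i < 8, actW (orbWord.getD (2 ^ i) []) 1 = 2 ^ i := by decide +kernel

set_option maxRecDepth 100000 in
theorem sgn_check : ∀ b : Fin 8 → Bool, ∃ p ∈ sgnPair, p.1 < 512 ∧ p.2 < 512 ∧
    qm p.1 p.2 = 0 ∧ ∀ i : Fin 8,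
      qm (qm p.1 (2 ^ (i : ℕ))) p.2 = cond (b i) (2 ^ (i : ℕ) ^^^ 256) (2 ^ (i : ℕ)) := by
  decide +kernel

set_option maxRecDepth 100000 in
theorem center_check : ∀ n < 512, (∀ i < 8, qm n (2 ^ i) = qm (2 ^ i) n) → n = 0 ∨ n = 256 := by
  decide +kernel

theorem pow_lt_512 {i : ℕ} (hi : i < 8) : 2 ^ i < 512 :=
  lt_of_lt_of_le (Nat.pow_lt_pow_right (by norm_num) hi) (by norm_num)

/-- two elements with the same permutation differ by the normal 2-subgroup -/
theorem exists_mul {x y : CC} (e : piC x = piC y) : ∃ r ∈ QQ, y = x * r :=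
  ⟨x⁻¹ * y, piC_eq_one.1 (by rw [map_mul, map_inv, e, inv_mul_cancel]), by
    rw [mul_inv_cancel_left]⟩

/-- an element of the normal 2-subgroup fixed up to sign stays so under the automorphism -/
theorem Ctx.image_fix (h : Ctx) (φ : MulAut CC) (ha : φ (cg .a) = cg .a) {x y : CC} {n m : ℕ}
    (hm : m < 512) {w : List ℕ} (hy : y = eW w) (hn : φ (vv n) = vv m)
    (hfix : x⁻¹ * vv n * x = vv n ∨ x⁻¹ * vv n * x = cg .a * vv n)
    (hxy : piC (φ x) = piC y) : actW w m = m ∨ actW w m = m ^^^ 256 := by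
  obtain ⟨r, hr, he⟩ := exists_mul hxy.symm
  have h2 : (φ x)⁻¹ * vv m * φ x = vv m ∨ (φ x)⁻¹ * vv m * φ x = cg .a * vv m := by
    rcases hfix with e | e
    · left; rw [← hn, ← map_inv, ← map_mul, ← map_mul, e]
    · right; rw [← hn, ← map_inv, ← map_mul, ← map_mul, e, map_mul, ha]
  rw [he, hy, mul_inv_rev, show r⁻¹ * (eW w)⁻¹ * vv m * (eW w * r) =
    r⁻¹ * ((eW w)⁻¹ * vv m * eW w) * r by group, ← h.vv_actW] at h2
  have hw := actW_lt w hm
  rcases h.conj_QQ hr (vv_mem_QQ h.a_ne (actW w m)) with e | e <;>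
    rcases h2 with e2 | e2 <;> rw [e] at e2
  · exact Or.inl (h.vv_inj hw hm e2)
  · exact Or.inr (h.vv_inj hw (flip_spec m hm).1 (by rw [h.vv_add256 hm, e2]))
  · refine Or.inr (h.vv_inj hw (flip_spec m hm).1 ?_)
    rw [h.vv_add256 hm, ← e2, ← mul_assoc, H40.Th.A_sq, one_mul]
  · exact Or.inl (h.vv_inj hw hm (mul_left_cancel e2))

/-- normalisation to trivial action on nine points -/
theorem Ctx.exists_fix_pi (h : Ctx) (φ : MulAut CC) (ha : φ (cg .a) = cg .a) :
    ∃ k : CC, (∀ x, piC ((MulAut.conj k * φ) x) = piC x) ∧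
      (MulAut.conj k * φ) (cg .a) = cg .a := by
  have hfixa : ∀ k : CC, (MulAut.conj k * φ) (cg .a) = cg .a := fun k => by
    rw [MulAut.mul_apply, ha, MulAut.conj_apply, H40.Th.A_central, mul_inv_cancel_right]
  obtain ⟨σ, hσ⟩ := h.exists_perm φ
  have hlift : ∀ g : Perm (Fin 9), Perm.sign g = 1 → ∃ k, piC k = g := fun g hg => by
    have : g ∈ piC.range := by rw [piC_range]; exact Equiv.Perm.mem_alternatingGroup.2 hg
    exact this
  rcases Int.units_eq_one_or (Perm.sign σ) with hs | hs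
  · obtain ⟨k, hk⟩ := hlift σ⁻¹ (by rw [map_inv, hs]; decide)
    refine ⟨k, fun x => ?_, hfixa k⟩
    rw [MulAut.mul_apply, MulAut.conj_apply, map_mul, map_mul, map_inv, hσ, hk]
    group
  · exfalso
    set τ : Perm (Fin 9) := Equiv.swap 0 1 with hτ
    obtain ⟨k, hk⟩ := hlift (τ * σ⁻¹) (by
      rw [map_mul, map_inv, hs, hτ, Equiv.Perm.sign_swap (by decide)]; decide)
    set ψ := MulAut.conj k * φ with hψ
    have hp : ∀ x, piC (ψ x) = τ * piC x * τ⁻¹ := fun x => by
      rw [hψ, MulAut.mul_apply, MulAut.conj_apply, map_mul, map_mul, map_inv, hσ, hk]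
      group
    obtain ⟨m, hm, e⟩ := h.vv_surj (h.map_QQ ψ (vv_mem_QQ h.a_ne 3))
    have hfix : (eW wX)⁻¹ * vv 3 * eW wX = vv 3 ∨ (eW wX)⁻¹ * vv 3 * eW wX = cg .a * vv 3 := by
      rw [← h.vv_actW]
      rcases wX_fix with e3 | e3 <;> rw [e3]
      · exact Or.inl rfl
      · exact Or.inr (h.vv_add256 (n := 3) (by norm_num))
    have hxy : piC (ψ (eW wX)) = piC (eW wY) := by rw [hp, piC_eW, piC_eW, wXY]
    have hv : vv m = vv 0 ∨ vv m = vv 256 := by
      rcases wY_fix m hm (h.image_fix ψ (hfixa k) hm rfl e hfix hxy) with r | r <;> simp [r]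
    rw [← e, vv_zero, vv_256] at hv
    rcases hv with hv | hv
    · have h0 : vv 3 = vv 0 := by rw [vv_zero]; exact ψ.injective (hv.trans (map_one ψ).symm)
      exact absurd (h.vv_inj (by norm_num) (by norm_num) h0) (by norm_num)
    · have h0 : vv 3 = vv 256 := by rw [vv_256]; exact ψ.injective (hv.trans (hfixa k).symm)
      exact absurd (h.vv_inj (by norm_num) (by norm_num) h0) (by norm_num)

/-- normalisation to trivial action on the normal 2-subgroup -/
theorem Ctx.exists_fix_QQ (h : Ctx) (φ : MulAut CC) (ha : φ (cg .a) = cg .a) :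
    ∃ k : CC, (∀ x, piC ((MulAut.conj k * φ) x) = piC x) ∧
      (∀ x ∈ QQ, (MulAut.conj k * φ) x = x) := by
  obtain ⟨k₁, hp, ha₁⟩ := h.exists_fix_pi φ ha
  set ψ := MulAut.conj k₁ * φ with hψ
  obtain ⟨n, hn, e⟩ := h.vv_surj (h.map_QQ ψ H40.Th.C_mem)
  have hce : ∀ l, (eC l)⁻¹ * vv 1 * eC l = vv 1 → act (img (min l 5)) n = n ∨
      act (img (min l 5)) n = n ^^^ 256 := by
    intro l hl
    exact h.image_fix ψ ha₁ (x := eC l) (y := eC l) (w := [l]) hn (n := 1)
      (by simp [eW, evalW]) (by rw [vv_one]; exact e) (Or.inl hl) (hp _)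
  have h2 := hce 2 (by
    rw [vv_one]; show (cg Th.Gen.e)⁻¹ * cg .c * cg .e = _
    rw [mul_assoc, ← H40.Th.EC, inv_mul_cancel_left])
  have h3 := hce 3 (by
    rw [vv_one]; show (cg Th.Gen.s)⁻¹ * cg .c * cg .s = _
    rw [mul_assoc, ← H40.Th.SC, inv_mul_cancel_left])
  have hc : ψ (cg .c) = cg .c ∨ ψ (cg .c) = cg .a * cg .c := by
    rcases se_fix n hn h2 h3 with r | r | r | r <;> rw [r] at e
    · rw [vv_zero, ← vv_one] at e
      have := h.vv_inj (n := 1) (m := 0) (by norm_num) (by norm_num)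
        (by rw [vv_zero]; exact ψ.injective (e.trans (map_one ψ).symm))
      omega
    · rw [vv_256, ← vv_one] at e
      have := h.vv_inj (n := 1) (m := 256) (by norm_num) (by norm_num)
        (by rw [vv_256]; exact ψ.injective (e.trans ha₁.symm))
      omega
    · left; rw [e, vv_one]
    · right; rw [e, ← vv_one, ← h.vv_add256 (by norm_num)]; rfl
  have hq : ∀ i : Fin 8, ψ (qv i) = qv i ∨ ψ (qv i) = cg .a * qv i := by
    intro i
    have hw := h.vv_actW (orbWord.getD (2 ^ (i : ℕ)) []) 1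
    rw [orb_pow i i.2, vv_one, vv_pow i.2] at hw
    set W := eW (orbWord.getD (2 ^ (i : ℕ)) [])
    obtain ⟨r, hr, hW⟩ := exists_mul (hp W).symm
    have hq' := h.conj_QQ hr (qv_mem_QQ i i.2)
    rw [congrArg ψ hw, map_mul, map_mul, map_inv, hW]
    rcases hc with ec | ec <;> rw [ec]
    · rw [show (W * r)⁻¹ * cg .c * (W * r) = r⁻¹ * (W⁻¹ * cg .c * W) * r by group, ← hw]
      exact hq'
    · rw [show (W * r)⁻¹ * (cg Th.Gen.a * cg .c) * (W * r) =
          ((W * r)⁻¹ * cg .a * (W * r)) * (r⁻¹ * (W⁻¹ * cg .c * W) * r) by group, ← hw,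
        mul_assoc (W * r)⁻¹, ← H40.Th.A_central, inv_mul_cancel_left]
      rcases hq' with e' | e' <;> rw [e']
      · exact Or.inr rfl
      · left; rw [← mul_assoc, H40.Th.A_sq, one_mul]
  classical
  obtain ⟨p, -, hp1, hp2, hpi, hpb⟩ := sgn_check fun i => decide (ψ (qv i) ≠ qv i)
  have hinv : vv p.1 = (vv p.2)⁻¹ := eq_inv_of_mul_eq_one_left (by
    rw [← vv_qm h.a_ne hp2, hpi, vv_zero])
  have hfix : ∀ i : Fin 8, vv p.1 * ψ (qv i) * vv p.2 = qv i := by
    intro i
    have hcj : vv p.1 * qv i * vv p.2 =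
        vv (cond (decide (ψ (qv i) ≠ qv i)) (2 ^ (i : ℕ) ^^^ 256) (2 ^ (i : ℕ))) := by
      rw [← hpb i, vv_qm h.a_ne hp2, vv_qm h.a_ne (pow_lt_512 i.2), vv_pow i.2]
    by_cases hne : ψ (qv i) = qv i
    · simpa [hne, vv_pow i.2] using hcj
    · rw [(hq i).resolve_left hne, ← mul_assoc (vv p.1), H40.Th.A_central, mul_assoc (cg Th.Gen.a),
        mul_assoc (cg Th.Gen.a), hcj]
      simp only [ne_eq, hne, not_false_eq_true, decide_true, cond_true, h.vv_add256 (pow_lt_512 i.2),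
        vv_pow i.2, ← mul_assoc, H40.Th.A_sq, one_mul]
  refine ⟨vv p.1 * k₁, ?_, ?_⟩
  · intro x
    rw [map_mul MulAut.conj, mul_assoc, MulAut.mul_apply, MulAut.conj_apply, map_mul, map_mul,
      map_inv, piC_eq_one.2 (vv_mem_QQ h.a_ne p.1)]
    simpa [hψ] using hp x
  · intro x hx
    obtain ⟨m, hm, rfl⟩ := h.vv_surj hx
    set χ := MulAut.conj (vv p.1 * k₁) * φ
    have hχ : ∀ y, χ y = vv p.1 * ψ y * vv p.2 := fun y => by
      show MulAut.conj (vv p.1 * k₁) (φ y) = _
      rw [map_mul, MulAut.mul_apply, MulAut.conj_apply (vv p.1), hinv, inv_inv]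
      rfl
    have hag : ∀ y, y ∈ Subgroup.closure (Set.range fun i : Fin 8 => qv i) → χ y = y := by
      intro y hy
      refine (Subgroup.closure_le (K := χ.toMonoidHom.eqLocus (MonoidHom.id CC))).mpr ?_ hy
      rintro _ ⟨i, rfl⟩
      show χ (qv i) = qv i
      rw [hχ, hfix]
    have hmem : ∀ i ∈ toL m, qv i ∈ Subgroup.closure (Set.range fun i : Fin 8 => qv i) :=
      fun i hi => Subgroup.subset_closure ⟨⟨i, toL_lt hi⟩, rfl⟩
    have hA : χ (cg .a) = cg .a := by
      rw [hχ, ha₁, H40.Th.A_central, mul_assoc, hinv, inv_mul_cancel, mul_one]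
    rw [vv, val, map_mul]
    congr 1
    · cases sg m
      · exact map_one χ
      · exact hA
    · exact hag _ (list_prod_mem fun y hy => by
        obtain ⟨i, hi, rfl⟩ := List.mem_map.1 hy
        exact hmem i hi)

theorem closure_eC : Subgroup.closure ({cg Th.Gen.a} ∪ Set.range eC) = (⊤ : Subgroup CC) := by
  apply Subgroup.map_injective CC.subtype_injective
  rw [MonoidHom.map_closure, ← MonoidHom.range_eq_map, Subgroup.range_subtype]
  apply le_antisymm
  · refine (Subgroup.closure_le _).mpr ?_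
    rintro _ ⟨x, -, rfl⟩
    exact x.2
  · refine (Subgroup.closure_le _).mpr ?_
    intro z hz
    simp only [Set.mem_insert_iff, Set.mem_singleton_iff] at hz
    apply Subgroup.subset_closure
    rcases hz with rfl | rfl | rfl | rfl | rfl | rfl | rfl
    · exact ⟨cg .a, Or.inl rfl, rfl⟩
    · exact ⟨cg .c, Or.inr ⟨0, rfl⟩, rfl⟩
    · exact ⟨cg .d, Or.inr ⟨1, rfl⟩, rfl⟩
    · exact ⟨cg .e, Or.inr ⟨2, rfl⟩, rfl⟩
    · exact ⟨cg .s, Or.inr ⟨3, rfl⟩, rfl⟩
    · exact ⟨cg .t, Or.inr ⟨4, rfl⟩, rfl⟩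
    · exact ⟨cg .u, Or.inr ⟨5, rfl⟩, rfl⟩

/-- an automorphism fixing the normal 2-subgroup and the nine points is the identity -/
theorem Ctx.eq_one (h : Ctx) (ψ : MulAut CC) (hp : ∀ x, piC (ψ x) = piC x)
    (hq : ∀ x ∈ QQ, ψ x = x) : ψ = 1 := by
  have hA : cg Th.Gen.a ∈ QQ := by rw [← vv_256]; exact vv_mem_QQ h.a_ne 256
  have hor : ∀ x, ψ x = x ∨ ψ x = x * cg .a := by
    intro x
    obtain ⟨r, hr, e⟩ := exists_mul (hp x).symm
    obtain ⟨n, hn, rfl⟩ := h.vv_surj hr
    have hc : ∀ i < 8, qm n (2 ^ i) = qm (2 ^ i) n := by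
      intro i hi
      apply h.vv_inj (qm_lt (pow_lt_512 hi)) (qm_lt hn)
      rw [vv_qm h.a_ne (pow_lt_512 hi), vv_qm h.a_ne hn, vv_pow hi]
      have hi' : x * qv i * x⁻¹ ∈ QQ := (inferInstance : QQ.Normal).conj_mem _ (qv_mem_QQ i hi) x
      have h1 := hq _ hi'
      rw [map_mul, map_mul, map_inv, hq _ (qv_mem_QQ i hi), e] at h1
      rw [show x * vv n * qv i * (x * vv n)⁻¹ = x * (vv n * qv i * (vv n)⁻¹) * x⁻¹ by group,
        mul_right_cancel_iff, mul_left_cancel_iff, mul_inv_eq_iff_eq_mul] at h1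
      exact h1
    rcases center_check n hn hc with r | r <;> rw [r] at e
    · exact Or.inl (by rw [e, vv_zero, mul_one])
    · exact Or.inr (by rw [e, vv_256])
  have bad : ∀ {P : Prop}, cg Th.Gen.a = 1 → P := fun e => absurd e h.a_ne
  have hodd : ∀ {x : CC} {m : ℕ}, Odd m → ψ (x ^ m) = x ^ m → ψ x = x := by
    intro x m hm e
    rcases hor x with r | r
    · exact r
    · rw [map_pow, r, (show Commute x (cg .a) from H40.Th.A_central x).mul_pow] at e
      obtain ⟨j, rfl⟩ := hm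
      rw [mul_eq_left, pow_succ, pow_mul, pow_two, H40.Th.A_sq, one_pow, one_mul] at e
      exact bad e
  have hC : ψ (cg .c) = cg .c := hq _ H40.Th.C_mem
  have hone : ∀ {x : CC} {m : ℕ}, Odd m → x ^ m = 1 → ψ x = x := fun hm e =>
    hodd hm (by rw [e, map_one])
  have hS : ψ (cg .s) = cg .s := hone (m := 7) (by decide)
    (by simpa [Th.extra] using H40.Th.crel_getD 14 (by decide))
  have hT : ψ (cg .t) = cg .t := hone (m := 3) (by decide)
    (by simpa [Th.extra] using H40.Th.crel_getD 20 (by decide))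
  have hE : ψ (cg .e) = cg .e := by
    rcases hor (cg .e) with r | r
    · exact r
    · have h19 : (cg Th.Gen.e)⁻¹ * (cg .s)⁻¹ * cg .e * cg .s =
          (cg .s ^ 3)⁻¹ * cg .e * cg .s ^ 3 := by
        have := H40.Th.crel_getD 19 (by decide)
        simp only [Th.extra, List.getD_cons_succ, List.getD_cons_zero, map_mul, map_inv, map_pow,
          FreeGroup.lift_apply_of, Th.e, Th.s] at this
        exact mul_inv_eq_one.1 this
      have := congrArg ψ h19
      rw [map_mul, map_mul, map_mul, map_inv, map_inv, map_mul, map_mul, map_inv, map_pow, hS, r]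
        at this
      have ha : ∀ y, cg Th.Gen.a * y = y * cg .a := fun y => (H40.Th.A_central y).symm
      have hai : (cg Th.Gen.a)⁻¹ = cg .a := inv_eq_of_mul_eq_one_right H40.Th.A_sq
      rw [mul_inv_rev, hai, show cg .a * (cg Th.Gen.e)⁻¹ * (cg .s)⁻¹ * (cg .e * cg .a) * cg .s =
          cg .a * ((cg Th.Gen.e)⁻¹ * (cg .s)⁻¹ * cg .e * (cg .a * cg .s)) by group,
        ha (cg .s), ← mul_assoc _ (cg Th.Gen.s), h19, ← mul_assoc (cg Th.Gen.a), ha,
        mul_assoc _ (cg Th.Gen.a) (cg Th.Gen.a), H40.Th.A_sq, mul_one,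
        show (cg Th.Gen.s ^ 3)⁻¹ * (cg .e * cg .a) * cg .s ^ 3 =
          (cg .s ^ 3)⁻¹ * cg .e * (cg .a * cg .s ^ 3) by group, ha, ← mul_assoc,
        left_eq_mul] at this
      exact bad this
  have hD : ψ (cg .d) = cg .d := by
    have h12 : (cg Th.Gen.d * cg .e) ^ 3 = 1 := by
      simpa [Th.extra] using H40.Th.crel_getD 12 (by decide)
    have h := hone (m := 3) (by decide) h12
    rw [map_mul, hE, mul_left_inj] at h
    exact h
  have hU : ψ (cg .u) = cg .u := by
    have h36 : (cg Th.Gen.a * cg .c) = (cg .u * cg .s) ^ 3 := by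
      have := H40.Th.crel_getD 36 (by decide)
      simp only [Th.extra, List.getD_cons_succ, List.getD_cons_zero, map_mul, map_inv, map_pow,
        FreeGroup.lift_apply_of, Th.a, Th.c, Th.u, Th.s] at this
      exact mul_inv_eq_one.1 this
    have h := hodd (x := cg .u * cg .s) (m := 3) (by decide)
      (by rw [← h36, map_mul, hC, hq _ hA])
    rw [map_mul, hS, mul_left_inj] at h
    exact h
  refine MulEquiv.ext fun x => ?_
  have hx : x ∈ Subgroup.closure ({cg Th.Gen.a} ∪ Set.range eC) := closure_eC ▸ Subgroup.mem_top x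
  refine (Subgroup.closure_le (K := ψ.toMonoidHom.eqLocus (MonoidHom.id CC))).mpr ?_ hx
  rintro _ (rfl | ⟨l, rfl⟩)
  · exact hq _ hA
  · match l with
    | 0 => exact hC
    | 1 => exact hD
    | 2 => exact hE
    | 3 => exact hS
    | 4 => exact hT
    | _ + 5 => exact hU

/-- every automorphism fixing the central involution is inner -/
theorem Ctx.aut_inner (h : Ctx) (φ : MulAut CC) (ha : φ (cg .a) = cg .a) :
    ∃ k : CC, ∀ x, φ x = k * x * k⁻¹ := by
  obtain ⟨k, hp, hq⟩ := h.exists_fix_QQ φ ha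
  have h1 := h.eq_one _ hp hq
  refine ⟨k⁻¹, fun x => ?_⟩
  have h2 : k * φ x * k⁻¹ = x := DFunLike.congr_fun h1 x
  calc φ x = k⁻¹ * (k * φ x * k⁻¹) * k⁻¹⁻¹ := by group
    _ = _ := by rw [h2]

end Cfsg.Agent.H83.ThOut
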