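import Cfsg.Agent.H32.ThRep.Rep

/-!
Generated: identities of words in the representation of the presented Thompson group.
-/

set_option autoImplicit false
set_option maxRecDepth 100000
set_option Elab.async false

namespace Cfsg.Agent.H83.ThOut

open Cfsg.Spor Cfsg.Agent.H32 ThRep

/-- word d0 -/
def w_d0 : List (Th.Gen × Bool) :=
  []

theorem chk_d0 : chk 248 (w_d0.map lm) (idN 248) (idN 248) = true := by decide +kernel

/-- word d1 -/
def w_d1 : List (Th.Gen × Bool) :=
  []

theorem chk_d1 : chk 248 (w_d1.map lm) (idN 248) (idN 248) = true := by decide +kernel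

/-- word d2 -/
def w_d2 : List (Th.Gen × Bool) :=
  [(.d, true), (.e, true), (.d, true), (.c, true), (.d, true), (.e, true), (.d, true), (.e, true), (.d, true), (.c, true), (.d, true), (.e, true)]

theorem chk_d2 : chk 248 (w_d2.map lm) (idN 248) (idN 248) = true := by decide +kernel

/-- word d3 -/
def w_d3 : List (Th.Gen × Bool) :=
  [(.d, true), (.s, false), (.e, true), (.d, true), (.c, true), (.d, true), (.e, true), (.s, true), (.d, true), (.s, true), (.e, true), (.d, true), (.c, true), (.d, true), (.e, true), (.s, false)]

theorem chk_d3 : chk 248 (w_d3.map lm) (idN 248) (idN 248) = true := by decide +kernel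

/-- word d4 -/
def w_d4 : List (Th.Gen × Bool) :=
  [(.d, true), (.s, true), (.e, true), (.d, true), (.c, true), (.d, true), (.e, true), (.s, false), (.d, true), (.s, false), (.e, true), (.d, true), (.c, true), (.d, true), (.e, true), (.s, true)]

theorem chk_d4 : chk 248 (w_d4.map lm) (idN 248) (idN 248) = true := by decide +kernel

/-- word d5 -/
def w_d5 : List (Th.Gen × Bool) :=
  [(.d, true), (.e, true), (.s, false), (.e, true), (.d, true), (.c, true), (.d, true), (.e, true), (.s, true), (.e, true), (.d, true), (.s, true), (.s, true), (.e, true), (.d, true), (.c, true), (.d, true), (.e, true), (.s, false), (.s, false), (.s, false), (.s, false), (.e, true), (.d, true), (.c, true), (.d, true), (.e, true), (.s, true), (.s, true), (.e, true), (.s, false), (.e, true), (.d, true), (.c, true), (.d, true), (.e, true), (.s, true), (.e, true), (.s, true), (.e, true), (.d, true), (.c, true), (.d, true), (.e, true), (.s, false), (.s, false), (.e, true), (.d, true), (.c, true), (.d, true), (.e, true), (.s, true), (.e, true), (.d, true), (.c, true), (.d, true), (.e, true), (.d, true), (.c, true), (.d, true), (.c,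 true)]

theorem chk_d5 : chk 248 (w_d5.map lm) (idN 248) (idN 248) = true := by decide +kernel

/-- word d6 -/
def w_d6 : List (Th.Gen × Bool) :=
  [(.d, true), (.s, false), (.s, false), (.e, true), (.d, true), (.c, true), (.d, true), (.e, true), (.s, true), (.s, true), (.d, true), (.s, true), (.s, true), (.e, true), (.d, true), (.c, true), (.d, true), (.e, true), (.s, false), (.s, false)]

theorem chk_d6 : chk 248 (w_d6.map lm) (idN 248) (idN 248) = true := by decide +kernel

/-- word d7 -/
def w_d7 : List (Th.Gen × Bool) :=
  [(.d, true), (.s, true), (.s, true), (.e, true), (.d, true), (.c, true), (.d, true), (.e, true), (.s, false), (.s, false), (.d, true), (.s, false), (.s, false), (.e, true), (.d, true), (.c, true), (.d, true), (.e, true), (.s, true), (.s, true)]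

theorem chk_d7 : chk 248 (w_d7.map lm) (idN 248) (idN 248) = true := by decide +kernel

/-- word e0 -/
def w_e0 : List (Th.Gen × Bool) :=
  [(.e, true), (.c, true), (.e, true), (.c, true)]

theorem chk_e0 : chk 248 (w_e0.map lm) (idN 248) (idN 248) = true := by decide +kernel

/-- word e1 -/
def w_e1 : List (Th.Gen × Bool) :=
  []

theorem chk_e1 : chk 248 (w_e1.map lm) (idN 248) (idN 248) = true := by decide +kernel

/-- word e2 -/
def w_e2 : List (Th.Gen × Bool) :=
  []

theorem chk_e2 : chk 248 (w_e2.map lm) (idN 248) (idN 248) = true := by decide +kernel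

/-- word e3 -/
def w_e3 : List (Th.Gen × Bool) :=
  []

theorem chk_e3 : chk 248 (w_e3.map lm) (idN 248) (idN 248) = true := by decide +kernel

/-- word e4 -/
def w_e4 : List (Th.Gen × Bool) :=
  [(.e, true), (.s, true), (.e, true), (.d, true), (.c, true), (.d, true), (.e, true), (.s, false), (.e, true), (.s, false), (.s, false), (.e, true), (.d, true), (.c, true), (.d, true), (.e, true), (.s, true), (.s, true)]

theorem chk_e4 : chk 248 (w_e4.map lm) (idN 248) (idN 248) = true := by decide +kernel

/-- word e5 -/
def w_e5 : List (Th.Gen × Bool) :=
  []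

theorem chk_e5 : chk 248 (w_e5.map lm) (idN 248) (idN 248) = true := by decide +kernel

/-- word e6 -/
def w_e6 : List (Th.Gen × Bool) :=
  [(.e, true), (.s, false), (.s, false), (.e, true), (.d, true), (.c, true), (.d, true), (.e, true), (.s, true), (.s, true), (.e, true), (.s, true), (.e, true), (.d, true), (.c, true), (.d, true), (.e, true), (.s, false)]

theorem chk_e6 : chk 248 (w_e6.map lm) (idN 248) (idN 248) = true := by decide +kernel

/-- word e7 -/
def w_e7 : List (Th.Gen × Bool) :=
  [(.e, true), (.s, true), (.s, true), (.e, true), (.d, true), (.c, true), (.d, true), (.e, true), (.s, false), (.s, false), (.e, true), (.s, true), (.s, true), (.e, true), (.d, true), (.c, true), (.d, true), (.e, true), (.s, false), (.s, false), (.s, false), (.s, false), (.e, true), (.d, true), (.c, true), (.d, true), (.e, true), (.s, true), (.s, true), (.e, true), (.s, false), (.e, true), (.d, true), (.c, true), (.d, true), (.e, true), (.s, true), (.e, true), (.s, true), (.e, true), (.d, true), (.c, true), (.d, true), (.e, true), (.s, false), (.s, false), (.e, true), (.d, true), (.c, true), (.d, true), (.e, true),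 (.s, true), (.e, true), (.d, true), (.c, true), (.d, true), (.e, true), (.d, true), (.c, true), (.d, true), (.c, true)]

theorem chk_e7 : chk 248 (w_e7.map lm) (idN 248) (idN 248) = true := by decide +kernel

/-- word s0 -/
def w_s0 : List (Th.Gen × Bool) :=
  [(.s, false), (.c, true), (.s, true), (.c, true)]

theorem chk_s0 : chk 248 (w_s0.map lm) (idN 248) (idN 248) = true := by decide +kernel

/-- word s1 -/
def w_s1 : List (Th.Gen × Bool) :=
  [(.s, false), (.d, true), (.c, true), (.d, true), (.s, true), (.d, true), (.c, true), (.d, true)]

theorem chk_s1 : chk 248 (w_s1.map lm) (idN 248) (idN 248) = true := by decide +kernel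

/-- word s2 -/
def w_s2 : List (Th.Gen × Bool) :=
  []

theorem chk_s2 : chk 248 (w_s2.map lm) (idN 248) (idN 248) = true := by decide +kernel

/-- word s3 -/
def w_s3 : List (Th.Gen × Bool) :=
  []

theorem chk_s3 : chk 248 (w_s3.map lm) (idN 248) (idN 248) = true := by decide +kernel

/-- word s4 -/
def w_s4 : List (Th.Gen × Bool) :=
  []

theorem chk_s4 : chk 248 (w_s4.map lm) (idN 248) (idN 248) = true := by decide +kernel

/-- word s5 -/
def w_s5 : List (Th.Gen × Bool) :=
  [(.s, false), (.e, true), (.s, false), (.e, true), (.d, true), (.c, true), (.d, true), (.e, true), (.s, true), (.e, true), (.s, true), (.s, true), (.s, true), (.e, true), (.d, true), (.c, true), (.d, true), (.e, true), (.s, false), (.s, false), (.s, false), (.s, false), (.e, true), (.d, true), (.c, true), (.d, true), (.e, true), (.s, true), (.s, true), (.e, true), (.s, false), (.e, true), (.d, true), (.c, true), (.d, true), (.e, true), (.s, true), (.e, true), (.s, true), (.e, true), (.d, true), (.c, true), (.d, true), (.e, true), (.s, false), (.s, false), (.e, true), (.d, true), (.c, true), (.d, true), (.e, true), (.s, true), (.e,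 true), (.d, true), (.c, true), (.d, true), (.e, true), (.d, true), (.c, true), (.d, true), (.c, true)]

theorem chk_s5 : chk 248 (w_s5.map lm) (idN 248) (idN 248) = true := by decide +kernel

/-- word s6 -/
def w_s6 : List (Th.Gen × Bool) :=
  [(.s, false), (.s, false), (.s, false), (.e, true), (.d, true), (.c, true), (.d, true), (.e, true), (.s, true), (.s, true), (.s, true), (.e, true), (.s, false), (.e, true), (.d, true), (.c, true), (.d, true), (.e, true), (.s, true), (.e, true)]

theorem chk_s6 : chk 248 (w_s6.map lm) (idN 248) (idN 248) = true := by decide +kernel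

/-- word s7 -/
def w_s7 : List (Th.Gen × Bool) :=
  []

theorem chk_s7 : chk 248 (w_s7.map lm) (idN 248) (idN 248) = true := by decide +kernel

/-- word t0 -/
def w_t0 : List (Th.Gen × Bool) :=
  [(.t, false), (.c, true), (.t, true), (.c, true)]

theorem chk_t0 : chk 248 (w_t0.map lm) (idN 248) (idN 248) = true := by decide +kernel

/-- word t1 -/
def w_t1 : List (Th.Gen × Bool) :=
  [(.t, false), (.d, true), (.c, true), (.d, true), (.t, true), (.d, true), (.c, true), (.d, true)]

theorem chk_t1 : chk 248 (w_t1.map lm) (idN 248) (idN 248) = true := by decide +kernel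

/-- word t2 -/
def w_t2 : List (Th.Gen × Bool) :=
  [(.t, false), (.e, true), (.d, true), (.c, true), (.d, true), (.e, true), (.t, true), (.e, true), (.d, true), (.c, true), (.d, true), (.e, true)]

theorem chk_t2 : chk 248 (w_t2.map lm) (idN 248) (idN 248) = true := by decide +kernel

/-- word t3 -/
def w_t3 : List (Th.Gen × Bool) :=
  [(.t, false), (.s, false), (.e, true), (.d, true), (.c, true), (.d, true), (.e, true), (.s, true), (.t, true), (.s, false), (.s, false), (.e, true), (.d, true), (.c, true), (.d, true), (.e, true), (.s, true), (.s, true)]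

theorem chk_t3 : chk 248 (w_t3.map lm) (idN 248) (idN 248) = true := by decide +kernel

/-- word t4 -/
def w_t4 : List (Th.Gen × Bool) :=
  [(.t, false), (.s, true), (.e, true), (.d, true), (.c, true), (.d, true), (.e, true), (.s, false), (.t, true), (.s, true), (.s, true), (.e, true), (.d, true), (.c, true), (.d, true), (.e, true), (.s, false), (.s, false)]

theorem chk_t4 : chk 248 (w_t4.map lm) (idN 248) (idN 248) = true := by decide +kernel

/-- word t5 -/
def w_t5 : List (Th.Gen × Bool) :=
  [(.t, false), (.e, true), (.s, false), (.e, true), (.d, true), (.c, true), (.d, true), (.e, true), (.s, true), (.e, true), (.t, true), (.s, true), (.e, true), (.d, true), (.c, true), (.d, true), (.e, true), (.s, false)]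

theorem chk_t5 : chk 248 (w_t5.map lm) (idN 248) (idN 248) = true := by decide +kernel

/-- word t6 -/
def w_t6 : List (Th.Gen × Bool) :=
  [(.t, false), (.s, false), (.s, false), (.e, true), (.d, true), (.c, true), (.d, true), (.e, true), (.s, true), (.s, true), (.t, true), (.s, true), (.s, true), (.e, true), (.d, true), (.c, true), (.d, true), (.e, true), (.s, false), (.s, false), (.s, false), (.s, false), (.e, true), (.d, true), (.c, true), (.d, true), (.e, true), (.s, true), (.s, true), (.e, true), (.s, false), (.e, true), (.d, true), (.c, true), (.d, true), (.e, true), (.s, true), (.e, true), (.s, true), (.e, true), (.d, true), (.c, true), (.d, true), (.e, true), (.s, false), (.s, false), (.e, true), (.d, true), (.c, true), (.d, true), (.e, true), (.s, true), (.e, true), (.d, true), (.c, true), (.d, true), (.e, true), (.d, true), (.c, true), (.d, true), (.c, true)]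

theorem chk_t6 : chk 248 (w_t6.map lm) (idN 248) (idN 248) = true := by decide +kernel

/-- word t7 -/
def w_t7 : List (Th.Gen × Bool) :=
  [(.t, false), (.s, true), (.s, true), (.e, true), (.d, true), (.c, true), (.d, true), (.e, true), (.s, false), (.s, false), (.t, true), (.e, true), (.s, false), (.e, true), (.d, true), (.c, true), (.d, true), (.e, true), (.s, true), (.e, true)]

theorem chk_t7 : chk 248 (w_t7.map lm) (idN 248) (idN 248) = true := by decide +kernel

end Cfsg.Agent.H83.ThOut
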