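import Cfsg.Agent.H32.ThRep.Rep

/-!
Generated: identities of words in the representation of the presented Thompson group.
-/

set_option autoImplicit false
set_option maxRecDepth 100000
set_option Elab.async false

namespace Cfsg.Agent.H83.ThOut

open Cfsg.Spor Cfsg.Agent.H32 ThRep

/-- word u0 -/
def w_u0 : List (Th.Gen × Bool) :=
  [(.u, false), (.c, true), (.u, true), (.c, true)]

theorem chk_u0 : chk 248 (w_u0.map lm) (idN 248) (idN 248) = true := by decide +kernel

/-- word u1 -/
def w_u1 : List (Th.Gen × Bool) :=
  [(.u, false), (.d, true), (.c, true), (.d, true), (.u, true), (.s, true), (.s, true), (.e, true), (.d, true), (.c, true), (.d, true), (.e, true), (.s, false), (.s, false), (.e, true), (.s, false), (.e, true), (.d, true), (.c, true), (.d, true), (.e, true), (.s, true), (.e, true), (.s, true), (.e, true), (.d, true), (.c, true), (.d, true), (.e, true), (.s, false), (.c, true), (.a, true)]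

theorem chk_u1 : chk 248 (w_u1.map lm) (idN 248) (idN 248) = true := by decide +kernel

/-- word u2 -/
def w_u2 : List (Th.Gen × Bool) :=
  [(.u, false), (.e, true), (.d, true), (.c, true), (.d, true), (.e, true), (.u, true), (.s, true), (.s, true), (.e, true), (.d, true), (.c, true), (.d, true), (.e, true), (.s, false), (.s, false), (.e, true), (.s, false), (.e, true), (.d, true), (.c, true), (.d, true), (.e, true), (.s, true), (.e, true), (.s, true), (.e, true), (.d, true), (.c, true), (.d, true), (.e, true), (.s, false), (.e, true), (.d, true), (.c, true), (.d, true), (.e, true), (.d, true), (.c, true), (.d, true), (.a, true)]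

theorem chk_u2 : chk 248 (w_u2.map lm) (idN 248) (idN 248) = true := by decide +kernel

/-- word u3 -/
def w_u3 : List (Th.Gen × Bool) :=
  [(.u, false), (.s, false), (.e, true), (.d, true), (.c, true), (.d, true), (.e, true), (.s, true), (.u, true), (.s, true), (.s, true), (.e, true), (.d, true), (.c, true), (.d, true), (.e, true), (.s, false), (.s, false), (.e, true), (.s, false), (.e, true), (.d, true), (.c, true), (.d, true), (.e, true), (.s, true), (.d, true), (.c, true), (.d, true), (.e, true), (.c, true)]

theorem chk_u3 : chk 248 (w_u3.map lm) (idN 248) (idN 248) = true := by decide +kernel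

/-- word u4 -/
def w_u4 : List (Th.Gen × Bool) :=
  [(.u, false), (.s, true), (.e, true), (.d, true), (.c, true), (.d, true), (.e, true), (.s, false), (.u, true), (.s, true), (.s, true), (.e, true), (.d, true), (.c, true), (.d, true), (.e, true), (.s, false), (.s, false), (.e, true), (.s, false), (.e, true), (.d, true), (.c, true), (.d, true), (.e, true), (.s, true), (.e, true), (.s, true), (.e, true), (.d, true), (.c, true), (.d, true), (.e, true), (.s, false), (.s, false), (.e, true), (.d, true), (.c, true), (.d, true), (.e, true), (.s, true), (.e, true), (.d, true), (.c, true), (.d, true), (.e, true)]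

theorem chk_u4 : chk 248 (w_u4.map lm) (idN 248) (idN 248) = true := by decide +kernel

/-- word u5 -/
def w_u5 : List (Th.Gen × Bool) :=
  [(.u, false), (.e, true), (.s, false), (.e, true), (.d, true), (.c, true), (.d, true), (.e, true), (.s, true), (.e, true), (.u, true), (.s, true), (.s, true), (.e, true), (.d, true), (.c, true), (.d, true), (.e, true), (.s, false), (.s, false), (.s, false), (.s, false), (.e, true), (.d, true), (.c, true), (.d, true), (.e, true), (.s, true), (.s, true), (.e, true), (.s, false), (.e, true), (.d, true), (.c, true), (.d, true), (.e, true), (.s, true), (.e, true), (.s, true), (.e, true), (.d, true), (.c, true), (.d, true), (.e, true), (.s, false), (.e, true), (.d, true), (.c, true), (.d, true), (.e, true)]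

theorem chk_u5 : chk 248 (w_u5.map lm) (idN 248) (idN 248) = true := by decide +kernel

/-- word u6 -/
def w_u6 : List (Th.Gen × Bool) :=
  [(.u, false), (.s, false), (.s, false), (.e, true), (.d, true), (.c, true), (.d, true), (.e, true), (.s, true), (.s, true), (.u, true), (.s, true), (.s, true), (.e, true), (.d, true), (.c, true), (.d, true), (.e, true), (.s, false), (.e, true), (.d, true), (.c, true), (.d, true), (.e, true), (.s, false), (.e, true), (.d, true), (.c, true), (.d, true), (.e, true), (.c, true), (.a, true)]

theorem chk_u6 : chk 248 (w_u6.map lm) (idN 248) (idN 248) = true := by decide +kernel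

/-- word u7 -/
def w_u7 : List (Th.Gen × Bool) :=
  [(.u, false), (.s, true), (.s, true), (.e, true), (.d, true), (.c, true), (.d, true), (.e, true), (.s, false), (.s, false), (.u, true), (.s, false), (.s, false), (.e, true), (.d, true), (.c, true), (.d, true), (.e, true), (.s, true), (.e, true), (.d, true), (.c, true), (.d, true), (.e, true), (.s, true), (.d, true), (.c, true), (.d, true), (.c, true), (.a, true)]

theorem chk_u7 : chk 248 (w_u7.map lm) (idN 248) (idN 248) = true := by decide +kernel

end Cfsg.Agent.H83.ThOut
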