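import Cfsg.Agent.H32.ThRep.Rep

/-!
Generated: identities of words in the representation of the presented Thompson group.
-/

set_option autoImplicit false
set_option maxRecDepth 100000
set_option Elab.async false

namespace Cfsg.Agent.H83.ThOut

open Cfsg.Spor Cfsg.Agent.H32 ThRep

/-- word swap -/
def w_swap : List (Th.Gen × Bool) :=
  [(.b, true), (.a, true), (.c, true), (.b, true), (.a, true), (.b, true), (.a, true), (.c, true), (.b, true), (.c, true)]

theorem chk_swap : chk 248 (w_swap.map lm) (idN 248) (idN 248) = true := by decide +kernel

/-- word swapInv -/
def w_swapInv : List (Th.Gen × Bool) :=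
  [(.b, true), (.a, true), (.c, true), (.b, true), (.b, true), (.a, true), (.c, true), (.b, true)]

theorem chk_swapInv : chk 248 (w_swapInv.map lm) (idN 248) (idN 248) = true := by decide +kernel

/-- word move -/
def w_move : List (Th.Gen × Bool) :=
  [(.e, true), (.c, true), (.d, true), (.u, false), (.b, true), (.a, true), (.c, true), (.b, true), (.d, true), (.u, false), (.e, true), (.d, true), (.b, true), (.a, true), (.c, true), (.b, true), (.a, true), (.b, true), (.c, true), (.a, true), (.b, true), (.d, true), (.e, true), (.u, true), (.d, true), (.b, true), (.c, true), (.a, true), (.b, true), (.u, true), (.d, true), (.c, true), (.e, true), (.d, true)]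

theorem chk_move : chk 248 (w_move.map lm) (idN 248) (idN 248) = true := by decide +kernel

/-- word gword -/
def w_gword : List (Th.Gen × Bool) :=
  [(.a, true), (.e, true), (.b, true), (.c, true), (.a, true), (.b, true), (.d, true), (.u, false), (.d, true), (.b, true), (.c, true), (.a, true), (.b, true), (.e, true), (.u, false), (.d, true), (.u, false), (.d, true), (.b, true), (.a, true), (.c, true), (.b, true), (.d, true), (.u, true), (.d, true), (.b, true), (.a, true), (.c, true), (.b, true), (.b, true), (.a, true), (.c, true), (.b, true)]

theorem chk_gword : chk 248 (w_gword.map lm) (idN 248) (idN 248) = true := by decide +kernel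

end Cfsg.Agent.H83.ThOut
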