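import Cfsg.Prelude.Def_Spor_Th

/-!
Generated: the eight conjugates of `c` as words and the images under conjugation by `d, e, s, t, u`.
-/

set_option autoImplicit false

namespace Cfsg.Agent.H83.ThOut

open Cfsg.Spor

/-- the words of the eight conjugates of `c` -/
def qWords : List (List (Th.Gen × Bool)) :=
  [[(.c, true)],
   [(.d, true), (.c, true), (.d, true)],
   [(.e, true), (.d, true), (.c, true), (.d, true), (.e, true)],
   [(.s, false), (.e, true), (.d, true), (.c, true), (.d, true), (.e, true), (.s, true)],
   [(.s, true), (.e, true), (.d, true), (.c, true), (.d, true), (.e, true), (.s, false)],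
   [(.e, true), (.s, false), (.e, true), (.d, true), (.c, true), (.d, true), (.e, true), (.s, true), (.e, true)],
   [(.s, false), (.s, false), (.e, true), (.d, true), (.c, true), (.d, true), (.e, true), (.s, true), (.s, true)],
   [(.s, true), (.s, true), (.e, true), (.d, true), (.c, true), (.d, true), (.e, true), (.s, false), (.s, false)]]

/-- the codes of the images of the eight conjugates under conjugation by a letter -/
def img : ℕ → List ℕ
  | 0 => [1, 258, 260, 264, 272, 288, 320, 384]
  | 1 => [2, 1, 4, 16, 8, 255, 128, 64]
  | 2 => [1, 4, 2, 32, 64, 8, 16, 255]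
  | 3 => [1, 2, 8, 64, 4, 255, 32, 16]
  | 4 => [1, 2, 4, 64, 128, 16, 255, 32]
  | _ => [1, 433, 438, 165, 188, 244, 405, 331]

end Cfsg.Agent.H83.ThOut
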