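import Mathlib

/-!
A normal form for the extraspecial group of order 512 generated by eight involutions whose
pairwise commutators are one central involution: numbers below 512.
-/

set_option autoImplicit false

namespace Cfsg.Agent.H83.ThOut

/-- the indices in a code -/
def toL (n : ℕ) : List ℕ := (List.range 8).filter fun i => n.testBit i

/-- the sign in a code -/
def sg (n : ℕ) : Bool := n.testBit 8

/-- insert a generator on the left of an ordered word, tracking the sign -/
def ins (i : ℕ) : List ℕ → Bool × List ℕ
  | [] => (false, [i])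
  | j :: L =>
    if i = j then (false, L)
    else if i < j then (false, i :: j :: L)
    else (!(ins i L).1, j :: (ins i L).2)

/-- encode a sign and a word -/
def enc (b : Bool) (L : List ℕ) : ℕ :=
  (L.map fun i => 2 ^ i).sum + cond b 256 0

/-- left multiplication by a generator -/
def lmulN (i n : ℕ) : ℕ :=
  enc (xor (ins i (toL n)).1 (sg n)) (ins i (toL n)).2

/-- product of two codes -/
def qm (n m : ℕ) : ℕ :=
  (toL n).foldr lmulN (cond (sg n) (m ^^^ 256) m)

/-- a list of images of the generators applied to a code -/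
def act (img : List ℕ) (n : ℕ) : ℕ :=
  (toL n).foldr (fun i m => qm (img.getD i 0) m) (cond (sg n) 256 0)

theorem toL_lt {n i : ℕ} (h : i ∈ toL n) : i < 8 := by
  simp only [toL, List.mem_filter, List.mem_range] at h
  exact h.1

set_option maxRecDepth 100000 in
theorem lmulN_spec : ∀ n < 512, ∀ i < 8, lmulN i n < 512 ∧
    toL (lmulN i n) = (ins i (toL n)).2 ∧ sg (lmulN i n) = xor (ins i (toL n)).1 (sg n) := by
  decide +kernel

set_option maxRecDepth 100000 in
theorem flip_spec : ∀ n < 512, n ^^^ 256 < 512 ∧ toL (n ^^^ 256) = toL n ∧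
    sg (n ^^^ 256) = !sg n := by
  decide +kernel

variable {G : Type*} [Group G]

/-- a configuration of involutions for the normal form -/
structure Frame (q : ℕ → G) (a : G) : Prop where
  sq : ∀ i < 8, q i * q i = 1
  a_sq : a * a = 1
  a_comm : ∀ i < 8, q i * a = a * q i
  pair : ∀ i < 8, ∀ j < 8, i ≠ j → q i * q j = a * (q j * q i)

/-- value of an ordered word -/
def valL (q : ℕ → G) (L : List ℕ) : G := (L.map q).prod

/-- value of a code -/
def val (q : ℕ → G) (a : G) (n : ℕ) : G := cond (sg n) a 1 * valL q (toL n)

theorem valL_ins {q : ℕ → G} {a : G} (h : Frame q a) {i : ℕ} (hi : i < 8) :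
    ∀ L : List ℕ, (∀ j ∈ L, j < 8) → cond (ins i L).1 a 1 * valL q (ins i L).2 = q i * valL q L := by
  intro L
  induction L with
  | nil => intro _; simp [ins, valL]
  | cons j L ih =>
    intro hL
    have hj : j < 8 := hL j (by simp)
    by_cases h1 : i = j
    · subst h1
      simp [ins, valL, ← mul_assoc, h.sq i hi]
    · by_cases h2 : i < j
      · simp [ins, valL, h1, h2]
      · have ih' := ih fun x hx => hL x (by simp [hx])
        simp only [ins, h1, h2, if_false, valL, List.map_cons, List.prod_cons]
        simp only [valL] at ih'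
        rw [← mul_assoc (q i), h.pair i hi j hj h1, mul_assoc a, mul_assoc (q j), ← ih']
        cases (ins i L).1 with
        | true =>
          simp only [Bool.not_true, cond_false, cond_true, one_mul]
          rw [← mul_assoc (q j) a, h.a_comm j hj, mul_assoc a, ← mul_assoc a a, h.a_sq, one_mul]
        | false => simp

theorem val_lmulN {q : ℕ → G} {a : G} (h : Frame q a) {i n : ℕ} (hi : i < 8) (hn : n < 512) :
    val q a (lmulN i n) = q i * val q a n := by
  obtain ⟨-, hL, hs⟩ := lmulN_spec n hn i hi
  have hins := valL_ins h hi (toL n) fun j hj => toL_lt hj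
  rw [val, hL, hs, val]
  cases sg n with
  | true =>
    rw [cond_true, ← mul_assoc, h.a_comm i hi, mul_assoc a, ← hins]
    cases (ins i (toL n)).1 with
    | true => simp [← mul_assoc, h.a_sq]
    | false => simp
  | false =>
    rw [cond_false, one_mul, ← hins]
    cases (ins i (toL n)).1 <;> simp

theorem val_flip {q : ℕ → G} {a : G} (h : Frame q a) {n : ℕ} (hn : n < 512) :
    val q a (n ^^^ 256) = a * val q a n := by
  obtain ⟨-, hL, hs⟩ := flip_spec n hn
  rw [val, hL, hs, val]
  cases sg n with
  | true => simp [← mul_assoc, h.a_sq]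
  | false => simp

theorem foldr_lmulN_lt : ∀ L : List ℕ, (∀ i ∈ L, i < 8) → ∀ {m : ℕ}, m < 512 →
    L.foldr lmulN m < 512 := by
  intro L
  induction L with
  | nil => intro _ m hm; exact hm
  | cons i L ih =>
    intro hL m hm
    exact (lmulN_spec _ (ih (fun x hx => hL x (by simp [hx])) hm) i (hL i (by simp))).1

theorem val_foldr {q : ℕ → G} {a : G} (h : Frame q a) : ∀ L : List ℕ, (∀ i ∈ L, i < 8) →
    ∀ {m : ℕ}, m < 512 → val q a (L.foldr lmulN m) = valL q L * val q a m := by
  intro L
  induction L with
  | nil => intro _ m _; simp [valL]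
  | cons i L ih =>
    intro hL m hm
    have hL' : ∀ x ∈ L, x < 8 := fun x hx => hL x (by simp [hx])
    rw [List.foldr_cons, val_lmulN h (hL i (by simp)) (foldr_lmulN_lt L hL' hm), ih hL' hm]
    simp [valL, mul_assoc]

theorem qm_lt {n m : ℕ} (hm : m < 512) : qm n m < 512 := by
  refine foldr_lmulN_lt _ (fun i hi => toL_lt hi) ?_
  cases sg n with
  | true => exact (flip_spec m hm).1
  | false => exact hm

theorem valL_a {q : ℕ → G} {a : G} (h : Frame q a) : ∀ L : List ℕ, (∀ i ∈ L, i < 8) →
    valL q L * a = a * valL q L := by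
  intro L
  induction L with
  | nil => intro _; simp [valL]
  | cons i L ih =>
    intro hL
    have ih' := ih fun x hx => hL x (by simp [hx])
    simp only [valL, List.map_cons, List.prod_cons] at ih' ⊢
    rw [mul_assoc, ih', ← mul_assoc, h.a_comm i (hL i (by simp)), mul_assoc]

theorem val_qm {q : ℕ → G} {a : G} (h : Frame q a) {n m : ℕ} (hm : m < 512) :
    val q a (qm n m) = val q a n * val q a m := by
  rw [qm, val.eq_def q a n]
  cases sg n with
  | true =>
    rw [cond_true, cond_true, val_foldr h _ (fun i hi => toL_lt hi) (flip_spec m hm).1,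
      val_flip h hm, ← mul_assoc, valL_a h _ fun i hi => toL_lt hi]
  | false =>
    rw [cond_false, cond_false, val_foldr h _ (fun i hi => toL_lt hi) hm, one_mul]

theorem act_lt {img : List ℕ} (himg : ∀ i < 8, img.getD i 0 < 512) (n : ℕ) :
    act img n < 512 := by
  unfold act
  have : ∀ L : List ℕ, ∀ m < 512, L.foldr (fun i m => qm (img.getD i 0) m) m < 512 := by
    intro L
    induction L with
    | nil => intro m hm; exact hm
    | cons i L ih => intro m hm; exact qm_lt (ih m hm)
  apply this
  cases sg n <;> simp

/-- conjugation agrees with the substitution of the images -/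
theorem val_act {q : ℕ → G} {a : G} (h : Frame q a) {g : G} (ha : g⁻¹ * a * g = a) {img : List ℕ}
    (hg : ∀ i < 8, g⁻¹ * q i * g = val q a (img.getD i 0)) (n : ℕ) :
    val q a (act img n) = g⁻¹ * val q a n * g := by
  have hv : val q a 256 = a ∧ val q a 0 = 1 := by
    constructor <;> simp [val, sg, valL, toL, List.range_succ, Nat.testBit]
  have key : ∀ L : List ℕ, (∀ i ∈ L, i < 8) → ∀ m < 512,
      L.foldr (fun i m => qm (img.getD i 0) m) m < 512 ∧
        val q a (L.foldr (fun i m => qm (img.getD i 0) m) m) = g⁻¹ * valL q L * g * val q a m := by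
    intro L
    induction L with
    | nil => intro _ m hm; simpa [valL] using hm
    | cons i L ih =>
      intro hL m hm
      obtain ⟨hlt, heq⟩ := ih (fun x hx => hL x (by simp [hx])) m hm
      refine ⟨qm_lt hlt, ?_⟩
      rw [List.foldr_cons, val_qm h hlt, heq, ← hg i (hL i (by simp))]
      simp only [valL, List.map_cons, List.prod_cons]
      group
  have hv0 := fun i (hi : i ∈ toL n) => toL_lt hi
  rw [act]
  cases hb : sg n with
  | true =>
    rw [cond_true, (key _ hv0 256 (by norm_num)).2, hv.1, val, hb, cond_true]
    calc g⁻¹ * valL q (toL n) * g * a = g⁻¹ * valL q (toL n) * g * (g⁻¹ * a * g) := by rw [ha]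
      _ = g⁻¹ * (valL q (toL n) * a) * g := by group
      _ = _ := by rw [valL_a h _ hv0]
  | false =>
    rw [cond_false, (key _ hv0 0 (by norm_num)).2, hv.2, mul_one, val, hb, cond_false, one_mul]

end Cfsg.Agent.H83.ThOut
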