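import Cfsg.Agent.H40.Th.Main
import Cfsg.Agent.H83.ThOut.Model
import Cfsg.Agent.H83.ThOut.Data
import Cfsg.Agent.H83.ThOut.ChkWords
import Cfsg.Agent.H83.ThOut.ChkImg1
import Cfsg.Agent.H83.ThOut.ChkImg2

/-!
The eight involutions generating the normal 2-subgroup of the involution centraliser of the
presented Thompson group, the conjugation by its generators, and some identities, all assuming
that the 248-dimensional representation is faithful.
-/

set_option autoImplicit false

namespace Cfsg.Agent.H83.ThOut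

open Cfsg.Spor Cfsg.Agent.H32 ThRep
open Cfsg.Agent.H40.Th (CC cg gen wval)

attribute [local irreducible] ThRep.gm ThRep.gi ThRep.mat ThRep.rep248 ThRep.chk ThRep.okMat
  ThRep.idN

/-- standing hypothesis: the representation is faithful -/
def Inj : Prop := Function.Injective (ThRep.rep248 : Th →* GL (Fin 248) (ZMod 3))

theorem wval_one (hI : Inj) {w : List (Th.Gen × Bool)}
    (h : chk 248 (w.map lm) (idN 248) (idN 248) = true) : wval w = 1 := by
  apply hI
  rw [map_one]
  apply Units.ext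
  rw [Units.val_one]
  show H40.Th.rm (wval w) = 1
  rw [H40.Th.rm_wval, List.map_map]
  exact chk_word h

/-- a word as an element of `CC` -/
def cv (w : List (Th.Gen × Bool)) : CC := (w.map fun l => cond l.2 (cg l.1) (cg l.1)⁻¹).prod

theorem cg_val {g : Th.Gen} (hg : g ≠ .b) : ((cg g : CC) : Th) = H40.Th.gen g := by
  cases g <;> first | rfl | exact absurd rfl hg

theorem cv_val : ∀ {w : List (Th.Gen × Bool)}, (∀ l ∈ w, l.1 ≠ .b) → ((cv w : CC) : Th) = wval w := by
  intro w
  induction w with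
  | nil => intro _; simp [cv, wval]
  | cons l w ih =>
    intro hw
    have := ih fun x hx => hw x (by simp [hx])
    simp only [cv, wval, List.map_cons, List.prod_cons] at this ⊢
    rw [Subgroup.coe_mul, this]
    obtain ⟨g, b⟩ := l
    have hg : g ≠ .b := hw (g, b) (by simp)
    cases b <;> simp [cg_val hg]

theorem cv_one (hI : Inj) {w : List (Th.Gen × Bool)} (hw : (w.all fun l => decide (l.1 ≠ .b)) = true)
    (h : chk 248 (w.map lm) (idN 248) (idN 248) = true) : cv w = 1 := by
  apply Subtype.ext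
  rw [cv_val (fun l hl => by simpa using List.all_eq_true.1 hw l hl), wval_one hI h]
  rfl

/-- the eight conjugates of `c` -/
def qv (i : ℕ) : CC := cv (qWords.getD i [])

/-- the letters `c, d, e, s, t, u` -/
def eC : ℕ → CC
  | 0 => cg .c
  | 1 => cg .d
  | 2 => cg .e
  | 3 => cg .s
  | 4 => cg .t
  | _ => cg .u

/-- value of a code -/
def vv (n : ℕ) : CC := val qv (cg .a) n

theorem qv_eq (hne : cg .a ≠ 1) : ∀ i < 8, qv i = (H40.Th.local_rels hne).q i := by
  have h := H40.Th.local_rels hne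
  have hd : (cg Th.Gen.d)⁻¹ = cg .d := (eq_inv_of_mul_eq_one_left H40.Th.D_sq).symm
  have he : (cg Th.Gen.e)⁻¹ = cg .e := (eq_inv_of_mul_eq_one_left H40.Th.E_sq).symm
  have m : ∀ i l, i < 9 → l < 4 → h.q (Cfsg.Agent.H45.tget H40.Th.Data.dat9.cols i l) =
      (H40.Th.e4C l)⁻¹ * h.q i * H40.Th.e4C l := fun i l hi hl => h.q_move hi hl
  show ∀ i < 8, qv i = h.q i
  have q1 := m 0 0 (by norm_num) (by norm_num)
  have q2 := m 1 1 (by norm_num) (by norm_num)
  have q3 := m 2 2 (by norm_num) (by norm_num)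
  have q4 := m 2 3 (by norm_num) (by norm_num)
  have q5 := m 3 1 (by norm_num) (by norm_num)
  have q6 := m 3 2 (by norm_num) (by norm_num)
  have q7 := m 4 3 (by norm_num) (by norm_num)
  rw [show Cfsg.Agent.H45.tget H40.Th.Data.dat9.cols 0 0 = 1 by decide +kernel, h.q_zero] at q1
  rw [show Cfsg.Agent.H45.tget H40.Th.Data.dat9.cols 1 1 = 2 by decide +kernel, q1] at q2
  rw [show Cfsg.Agent.H45.tget H40.Th.Data.dat9.cols 2 2 = 3 by decide +kernel, q2] at q3
  rw [show Cfsg.Agent.H45.tget H40.Th.Data.dat9.cols 2 3 = 4 by decide +kernel, q2] at q4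
  rw [show Cfsg.Agent.H45.tget H40.Th.Data.dat9.cols 3 1 = 5 by decide +kernel, q3] at q5
  rw [show Cfsg.Agent.H45.tget H40.Th.Data.dat9.cols 3 2 = 6 by decide +kernel, q3] at q6
  rw [show Cfsg.Agent.H45.tget H40.Th.Data.dat9.cols 4 3 = 7 by decide +kernel, q4] at q7
  intro i hi
  interval_cases i
  · rw [h.q_zero]; simp [qv, cv, qWords]
  all_goals
    simp [qv, cv, qWords, q1, q2, q3, q4, q5, q6, q7, H40.Th.e4C, hd, he, mul_assoc]

theorem frame (hne : cg .a ≠ 1) : Frame qv (cg .a) := by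
  have h := H40.Th.local_rels hne
  have key : ∀ i < 8, qv i = h.q i := qv_eq hne
  refine ⟨fun i hi => ?_, H40.Th.A_sq, fun i _ => H40.Th.A_central _, fun i hi j hj hij => ?_⟩
  · rw [key i hi]; exact h.q_sq i
  · rw [key i hi, key j hj]; exact h.pair (by omega) (by omega) hij

theorem qv_mem_QQ (i : ℕ) (hi : i < 8) : qv i ∈ H40.Th.QQ := by
  have hc : cg Th.Gen.c ∈ H40.Th.QQ := H40.Th.C_mem
  have hn : H40.Th.QQ.Normal := inferInstance
  have conjR : ∀ {x : CC} (g : CC), x ∈ H40.Th.QQ → g * x * g⁻¹ ∈ H40.Th.QQ :=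
    fun g hx => hn.conj_mem _ hx g
  have hd : (cg Th.Gen.d)⁻¹ = cg .d := (eq_inv_of_mul_eq_one_left H40.Th.D_sq).symm
  have he : (cg Th.Gen.e)⁻¹ = cg .e := (eq_inv_of_mul_eq_one_left H40.Th.E_sq).symm
  have h1 := conjR (cg .d) hc
  rw [hd] at h1
  have h2 := conjR (cg .e) h1
  rw [he] at h2
  have h3 := conjR (cg .s)⁻¹ h2
  rw [inv_inv] at h3
  have h4 := conjR (cg .s) h2
  have h5 := conjR (cg .e) h3
  rw [he] at h5
  have h6 := conjR (cg .s)⁻¹ h3
  rw [inv_inv] at h6
  have h7 := conjR (cg .s) h4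
  interval_cases i
  exacts [by simpa [qv, cv, qWords] using hc, by simpa [qv, cv, qWords, mul_assoc] using h1,
    by simpa [qv, cv, qWords, mul_assoc] using h2, by simpa [qv, cv, qWords, mul_assoc] using h3,
    by simpa [qv, cv, qWords, mul_assoc] using h4, by simpa [qv, cv, qWords, mul_assoc] using h5,
    by simpa [qv, cv, qWords, mul_assoc] using h6, by simpa [qv, cv, qWords, mul_assoc] using h7]

theorem vv_mem_QQ (hne : cg .a ≠ 1) (n : ℕ) : vv n ∈ H40.Th.QQ := by
  have ha : cg Th.Gen.a ∈ H40.Th.QQ := by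
    have h := (frame hne).pair 0 (by norm_num) 1 (by norm_num) (by norm_num)
    rw [← mul_inv_eq_iff_eq_mul] at h
    rw [← h]
    exact mul_mem (mul_mem (qv_mem_QQ 0 (by norm_num)) (qv_mem_QQ 1 (by norm_num)))
      (inv_mem (mul_mem (qv_mem_QQ 1 (by norm_num)) (qv_mem_QQ 0 (by norm_num))))
  refine mul_mem ?_ (list_prod_mem fun x hx => ?_)
  · cases sg n
    · exact one_mem _
    · exact ha
  · obtain ⟨i, hi, rfl⟩ := List.mem_map.1 hx
    exact qv_mem_QQ i (toL_lt hi)

theorem vv_qm (hne : cg .a ≠ 1) {n m : ℕ} (hm : m < 512) : vv (qm n m) = vv n * vv m :=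
  val_qm (frame hne) hm

theorem vv_zero : vv 0 = 1 := by simp [vv, val, sg, valL, toL]

theorem vv_256 : vv 256 = cg .a := by
  simp [vv, val, sg, valL, toL, List.range_succ, Nat.testBit]

theorem vv_one : vv 1 = cg .c := by
  simp [vv, val, sg, valL, toL, List.range_succ, Nat.testBit, qv, cv, qWords]

set_option maxRecDepth 100000 in
theorem img_lt : ∀ l < 6, ∀ i < 8, (img l).getD i 0 < 512 := by decide +kernel

theorem of_word (hI : Inj) (hne : cg .a ≠ 1) {g : CC} {w : List (Th.Gen × Bool)} {i n : ℕ}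
    (hw : (w.all fun l => decide (l.1 ≠ .b)) = true)
    (h : chk 248 (w.map lm) (idN 248) (idN 248) = true)
    (hd : cv w = g⁻¹ * qv i * g * (vv n)⁻¹) : g⁻¹ * qv i * g = vv n := by
  rw [cv_one hI hw h] at hd
  exact mul_inv_eq_one.1 hd.symm

end Cfsg.Agent.H83.ThOut
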