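import Cfsg.Agent.H83.ThOut.Facts

/-!
The action of the generators of the involution centraliser on its normal 2-subgroup.
-/

set_option autoImplicit false
set_option linter.unusedSimpArgs false

namespace Cfsg.Agent.H83.ThOut

open Cfsg.Spor Cfsg.Agent.H32 ThRep
open Cfsg.Agent.H40.Th (CC cg)

attribute [local irreducible] ThRep.gm ThRep.gi ThRep.mat ThRep.rep248 ThRep.chk ThRep.okMat
  ThRep.idN

theorem img_d (hI : Inj) (hne : cg .a ≠ 1) : ∀ i < 8,
    (cg .d)⁻¹ * qv i * cg .d = vv ((img 1).getD i 0) := by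
  have ha : (cg Th.Gen.a)⁻¹ = cg .a := (eq_inv_of_mul_eq_one_left H40.Th.A_sq).symm
  have hc : (cg Th.Gen.c)⁻¹ = cg .c := (eq_inv_of_mul_eq_one_left H40.Th.C_sq).symm
  have hd : (cg Th.Gen.d)⁻¹ = cg .d := (eq_inv_of_mul_eq_one_left H40.Th.D_sq).symm
  have he : (cg Th.Gen.e)⁻¹ = cg .e := (eq_inv_of_mul_eq_one_left H40.Th.E_sq).symm
  have a2 : ∀ y, cg Th.Gen.a * (cg .a * y) = y := fun y => by
    rw [← mul_assoc, H40.Th.A_sq, one_mul]
  have c2 : ∀ y, cg Th.Gen.c * (cg .c * y) = y := fun y => by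
    rw [← mul_assoc, H40.Th.C_sq, one_mul]
  have d2 : ∀ y, cg Th.Gen.d * (cg .d * y) = y := fun y => by
    rw [← mul_assoc, H40.Th.D_sq, one_mul]
  have e2 : ∀ y, cg Th.Gen.e * (cg .e * y) = y := fun y => by
    rw [← mul_assoc, H40.Th.E_sq, one_mul]
  intro i hi
  interval_cases i
  · refine of_word hI hne (w := w_d0) (by decide) chk_d0 ?_
    simp [cv, w_d0, qv, qWords, img, vv, val, sg, valL, toL, List.range_succ, Nat.testBit, mul_assoc, ha, hc, hd, he,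
      H40.Th.A_sq, H40.Th.C_sq, H40.Th.D_sq, H40.Th.E_sq, a2, c2, d2, e2]
  · refine of_word hI hne (w := w_d1) (by decide) chk_d1 ?_
    simp [cv, w_d1, qv, qWords, img, vv, val, sg, valL, toL, List.range_succ, Nat.testBit, mul_assoc, ha, hc, hd, he,
      H40.Th.A_sq, H40.Th.C_sq, H40.Th.D_sq, H40.Th.E_sq, a2, c2, d2, e2]
  · refine of_word hI hne (w := w_d2) (by decide) chk_d2 ?_
    simp [cv, w_d2, qv, qWords, img, vv, val, sg, valL, toL, List.range_succ, Nat.testBit, mul_assoc, ha, hc, hd, he,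
      H40.Th.A_sq, H40.Th.C_sq, H40.Th.D_sq, H40.Th.E_sq, a2, c2, d2, e2]
  · refine of_word hI hne (w := w_d3) (by decide) chk_d3 ?_
    simp [cv, w_d3, qv, qWords, img, vv, val, sg, valL, toL, List.range_succ, Nat.testBit, mul_assoc, ha, hc, hd, he,
      H40.Th.A_sq, H40.Th.C_sq, H40.Th.D_sq, H40.Th.E_sq, a2, c2, d2, e2]
  · refine of_word hI hne (w := w_d4) (by decide) chk_d4 ?_
    simp [cv, w_d4, qv, qWords, img, vv, val, sg, valL, toL, List.range_succ, Nat.testBit, mul_assoc, ha, hc, hd, he,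
      H40.Th.A_sq, H40.Th.C_sq, H40.Th.D_sq, H40.Th.E_sq, a2, c2, d2, e2]
  · refine of_word hI hne (w := w_d5) (by decide) chk_d5 ?_
    simp [cv, w_d5, qv, qWords, img, vv, val, sg, valL, toL, List.range_succ, Nat.testBit, mul_assoc, ha, hc, hd, he,
      H40.Th.A_sq, H40.Th.C_sq, H40.Th.D_sq, H40.Th.E_sq, a2, c2, d2, e2]
  · refine of_word hI hne (w := w_d6) (by decide) chk_d6 ?_
    simp [cv, w_d6, qv, qWords, img, vv, val, sg, valL, toL, List.range_succ, Nat.testBit, mul_assoc, ha, hc, hd, he,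
      H40.Th.A_sq, H40.Th.C_sq, H40.Th.D_sq, H40.Th.E_sq, a2, c2, d2, e2]
  · refine of_word hI hne (w := w_d7) (by decide) chk_d7 ?_
    simp [cv, w_d7, qv, qWords, img, vv, val, sg, valL, toL, List.range_succ, Nat.testBit, mul_assoc, ha, hc, hd, he,
      H40.Th.A_sq, H40.Th.C_sq, H40.Th.D_sq, H40.Th.E_sq, a2, c2, d2, e2]

theorem img_e (hI : Inj) (hne : cg .a ≠ 1) : ∀ i < 8,
    (cg .e)⁻¹ * qv i * cg .e = vv ((img 2).getD i 0) := by
  have ha : (cg Th.Gen.a)⁻¹ = cg .a := (eq_inv_of_mul_eq_one_left H40.Th.A_sq).symm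
  have hc : (cg Th.Gen.c)⁻¹ = cg .c := (eq_inv_of_mul_eq_one_left H40.Th.C_sq).symm
  have hd : (cg Th.Gen.d)⁻¹ = cg .d := (eq_inv_of_mul_eq_one_left H40.Th.D_sq).symm
  have he : (cg Th.Gen.e)⁻¹ = cg .e := (eq_inv_of_mul_eq_one_left H40.Th.E_sq).symm
  have a2 : ∀ y, cg Th.Gen.a * (cg .a * y) = y := fun y => by
    rw [← mul_assoc, H40.Th.A_sq, one_mul]
  have c2 : ∀ y, cg Th.Gen.c * (cg .c * y) = y := fun y => by
    rw [← mul_assoc, H40.Th.C_sq, one_mul]
  have d2 : ∀ y, cg Th.Gen.d * (cg .d * y) = y := fun y => by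
    rw [← mul_assoc, H40.Th.D_sq, one_mul]
  have e2 : ∀ y, cg Th.Gen.e * (cg .e * y) = y := fun y => by
    rw [← mul_assoc, H40.Th.E_sq, one_mul]
  intro i hi
  interval_cases i
  · refine of_word hI hne (w := w_e0) (by decide) chk_e0 ?_
    simp [cv, w_e0, qv, qWords, img, vv, val, sg, valL, toL, List.range_succ, Nat.testBit, mul_assoc, ha, hc, hd, he,
      H40.Th.A_sq, H40.Th.C_sq, H40.Th.D_sq, H40.Th.E_sq, a2, c2, d2, e2]
  · refine of_word hI hne (w := w_e1) (by decide) chk_e1 ?_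
    simp [cv, w_e1, qv, qWords, img, vv, val, sg, valL, toL, List.range_succ, Nat.testBit, mul_assoc, ha, hc, hd, he,
      H40.Th.A_sq, H40.Th.C_sq, H40.Th.D_sq, H40.Th.E_sq, a2, c2, d2, e2]
  · refine of_word hI hne (w := w_e2) (by decide) chk_e2 ?_
    simp [cv, w_e2, qv, qWords, img, vv, val, sg, valL, toL, List.range_succ, Nat.testBit, mul_assoc, ha, hc, hd, he,
      H40.Th.A_sq, H40.Th.C_sq, H40.Th.D_sq, H40.Th.E_sq, a2, c2, d2, e2]
  · refine of_word hI hne (w := w_e3) (by decide) chk_e3 ?_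
    simp [cv, w_e3, qv, qWords, img, vv, val, sg, valL, toL, List.range_succ, Nat.testBit, mul_assoc, ha, hc, hd, he,
      H40.Th.A_sq, H40.Th.C_sq, H40.Th.D_sq, H40.Th.E_sq, a2, c2, d2, e2]
  · refine of_word hI hne (w := w_e4) (by decide) chk_e4 ?_
    simp [cv, w_e4, qv, qWords, img, vv, val, sg, valL, toL, List.range_succ, Nat.testBit, mul_assoc, ha, hc, hd, he,
      H40.Th.A_sq, H40.Th.C_sq, H40.Th.D_sq, H40.Th.E_sq, a2, c2, d2, e2]
  · refine of_word hI hne (w := w_e5) (by decide) chk_e5 ?_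
    simp [cv, w_e5, qv, qWords, img, vv, val, sg, valL, toL, List.range_succ, Nat.testBit, mul_assoc, ha, hc, hd, he,
      H40.Th.A_sq, H40.Th.C_sq, H40.Th.D_sq, H40.Th.E_sq, a2, c2, d2, e2]
  · refine of_word hI hne (w := w_e6) (by decide) chk_e6 ?_
    simp [cv, w_e6, qv, qWords, img, vv, val, sg, valL, toL, List.range_succ, Nat.testBit, mul_assoc, ha, hc, hd, he,
      H40.Th.A_sq, H40.Th.C_sq, H40.Th.D_sq, H40.Th.E_sq, a2, c2, d2, e2]
  · refine of_word hI hne (w := w_e7) (by decide) chk_e7 ?_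
    simp [cv, w_e7, qv, qWords, img, vv, val, sg, valL, toL, List.range_succ, Nat.testBit, mul_assoc, ha, hc, hd, he,
      H40.Th.A_sq, H40.Th.C_sq, H40.Th.D_sq, H40.Th.E_sq, a2, c2, d2, e2]

theorem img_s (hI : Inj) (hne : cg .a ≠ 1) : ∀ i < 8,
    (cg .s)⁻¹ * qv i * cg .s = vv ((img 3).getD i 0) := by
  have ha : (cg Th.Gen.a)⁻¹ = cg .a := (eq_inv_of_mul_eq_one_left H40.Th.A_sq).symm
  have hc : (cg Th.Gen.c)⁻¹ = cg .c := (eq_inv_of_mul_eq_one_left H40.Th.C_sq).symm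
  have hd : (cg Th.Gen.d)⁻¹ = cg .d := (eq_inv_of_mul_eq_one_left H40.Th.D_sq).symm
  have he : (cg Th.Gen.e)⁻¹ = cg .e := (eq_inv_of_mul_eq_one_left H40.Th.E_sq).symm
  have a2 : ∀ y, cg Th.Gen.a * (cg .a * y) = y := fun y => by
    rw [← mul_assoc, H40.Th.A_sq, one_mul]
  have c2 : ∀ y, cg Th.Gen.c * (cg .c * y) = y := fun y => by
    rw [← mul_assoc, H40.Th.C_sq, one_mul]
  have d2 : ∀ y, cg Th.Gen.d * (cg .d * y) = y := fun y => by
    rw [← mul_assoc, H40.Th.D_sq, one_mul]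
  have e2 : ∀ y, cg Th.Gen.e * (cg .e * y) = y := fun y => by
    rw [← mul_assoc, H40.Th.E_sq, one_mul]
  intro i hi
  interval_cases i
  · refine of_word hI hne (w := w_s0) (by decide) chk_s0 ?_
    simp [cv, w_s0, qv, qWords, img, vv, val, sg, valL, toL, List.range_succ, Nat.testBit, mul_assoc, ha, hc, hd, he,
      H40.Th.A_sq, H40.Th.C_sq, H40.Th.D_sq, H40.Th.E_sq, a2, c2, d2, e2]
  · refine of_word hI hne (w := w_s1) (by decide) chk_s1 ?_
    simp [cv, w_s1, qv, qWords, img, vv, val, sg, valL, toL, List.range_succ, Nat.testBit, mul_assoc, ha, hc, hd, he,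
      H40.Th.A_sq, H40.Th.C_sq, H40.Th.D_sq, H40.Th.E_sq, a2, c2, d2, e2]
  · refine of_word hI hne (w := w_s2) (by decide) chk_s2 ?_
    simp [cv, w_s2, qv, qWords, img, vv, val, sg, valL, toL, List.range_succ, Nat.testBit, mul_assoc, ha, hc, hd, he,
      H40.Th.A_sq, H40.Th.C_sq, H40.Th.D_sq, H40.Th.E_sq, a2, c2, d2, e2]
  · refine of_word hI hne (w := w_s3) (by decide) chk_s3 ?_
    simp [cv, w_s3, qv, qWords, img, vv, val, sg, valL, toL, List.range_succ, Nat.testBit, mul_assoc, ha, hc, hd, he,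
      H40.Th.A_sq, H40.Th.C_sq, H40.Th.D_sq, H40.Th.E_sq, a2, c2, d2, e2]
  · refine of_word hI hne (w := w_s4) (by decide) chk_s4 ?_
    simp [cv, w_s4, qv, qWords, img, vv, val, sg, valL, toL, List.range_succ, Nat.testBit, mul_assoc, ha, hc, hd, he,
      H40.Th.A_sq, H40.Th.C_sq, H40.Th.D_sq, H40.Th.E_sq, a2, c2, d2, e2]
  · refine of_word hI hne (w := w_s5) (by decide) chk_s5 ?_
    simp [cv, w_s5, qv, qWords, img, vv, val, sg, valL, toL, List.range_succ, Nat.testBit, mul_assoc, ha, hc, hd, he,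
      H40.Th.A_sq, H40.Th.C_sq, H40.Th.D_sq, H40.Th.E_sq, a2, c2, d2, e2]
  · refine of_word hI hne (w := w_s6) (by decide) chk_s6 ?_
    simp [cv, w_s6, qv, qWords, img, vv, val, sg, valL, toL, List.range_succ, Nat.testBit, mul_assoc, ha, hc, hd, he,
      H40.Th.A_sq, H40.Th.C_sq, H40.Th.D_sq, H40.Th.E_sq, a2, c2, d2, e2]
  · refine of_word hI hne (w := w_s7) (by decide) chk_s7 ?_
    simp [cv, w_s7, qv, qWords, img, vv, val, sg, valL, toL, List.range_succ, Nat.testBit, mul_assoc, ha, hc, hd, he,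
      H40.Th.A_sq, H40.Th.C_sq, H40.Th.D_sq, H40.Th.E_sq, a2, c2, d2, e2]

theorem img_t (hI : Inj) (hne : cg .a ≠ 1) : ∀ i < 8,
    (cg .t)⁻¹ * qv i * cg .t = vv ((img 4).getD i 0) := by
  have ha : (cg Th.Gen.a)⁻¹ = cg .a := (eq_inv_of_mul_eq_one_left H40.Th.A_sq).symm
  have hc : (cg Th.Gen.c)⁻¹ = cg .c := (eq_inv_of_mul_eq_one_left H40.Th.C_sq).symm
  have hd : (cg Th.Gen.d)⁻¹ = cg .d := (eq_inv_of_mul_eq_one_left H40.Th.D_sq).symm
  have he : (cg Th.Gen.e)⁻¹ = cg .e := (eq_inv_of_mul_eq_one_left H40.Th.E_sq).symm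
  have a2 : ∀ y, cg Th.Gen.a * (cg .a * y) = y := fun y => by
    rw [← mul_assoc, H40.Th.A_sq, one_mul]
  have c2 : ∀ y, cg Th.Gen.c * (cg .c * y) = y := fun y => by
    rw [← mul_assoc, H40.Th.C_sq, one_mul]
  have d2 : ∀ y, cg Th.Gen.d * (cg .d * y) = y := fun y => by
    rw [← mul_assoc, H40.Th.D_sq, one_mul]
  have e2 : ∀ y, cg Th.Gen.e * (cg .e * y) = y := fun y => by
    rw [← mul_assoc, H40.Th.E_sq, one_mul]
  intro i hi
  interval_cases i
  · refine of_word hI hne (w := w_t0) (by decide) chk_t0 ?_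
    simp [cv, w_t0, qv, qWords, img, vv, val, sg, valL, toL, List.range_succ, Nat.testBit, mul_assoc, ha, hc, hd, he,
      H40.Th.A_sq, H40.Th.C_sq, H40.Th.D_sq, H40.Th.E_sq, a2, c2, d2, e2]
  · refine of_word hI hne (w := w_t1) (by decide) chk_t1 ?_
    simp [cv, w_t1, qv, qWords, img, vv, val, sg, valL, toL, List.range_succ, Nat.testBit, mul_assoc, ha, hc, hd, he,
      H40.Th.A_sq, H40.Th.C_sq, H40.Th.D_sq, H40.Th.E_sq, a2, c2, d2, e2]
  · refine of_word hI hne (w := w_t2) (by decide) chk_t2 ?_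
    simp [cv, w_t2, qv, qWords, img, vv, val, sg, valL, toL, List.range_succ, Nat.testBit, mul_assoc, ha, hc, hd, he,
      H40.Th.A_sq, H40.Th.C_sq, H40.Th.D_sq, H40.Th.E_sq, a2, c2, d2, e2]
  · refine of_word hI hne (w := w_t3) (by decide) chk_t3 ?_
    simp [cv, w_t3, qv, qWords, img, vv, val, sg, valL, toL, List.range_succ, Nat.testBit, mul_assoc, ha, hc, hd, he,
      H40.Th.A_sq, H40.Th.C_sq, H40.Th.D_sq, H40.Th.E_sq, a2, c2, d2, e2]
  · refine of_word hI hne (w := w_t4) (by decide) chk_t4 ?_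
    simp [cv, w_t4, qv, qWords, img, vv, val, sg, valL, toL, List.range_succ, Nat.testBit, mul_assoc, ha, hc, hd, he,
      H40.Th.A_sq, H40.Th.C_sq, H40.Th.D_sq, H40.Th.E_sq, a2, c2, d2, e2]
  · refine of_word hI hne (w := w_t5) (by decide) chk_t5 ?_
    simp [cv, w_t5, qv, qWords, img, vv, val, sg, valL, toL, List.range_succ, Nat.testBit, mul_assoc, ha, hc, hd, he,
      H40.Th.A_sq, H40.Th.C_sq, H40.Th.D_sq, H40.Th.E_sq, a2, c2, d2, e2]
  · refine of_word hI hne (w := w_t6) (by decide) chk_t6 ?_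
    simp [cv, w_t6, qv, qWords, img, vv, val, sg, valL, toL, List.range_succ, Nat.testBit, mul_assoc, ha, hc, hd, he,
      H40.Th.A_sq, H40.Th.C_sq, H40.Th.D_sq, H40.Th.E_sq, a2, c2, d2, e2]
  · refine of_word hI hne (w := w_t7) (by decide) chk_t7 ?_
    simp [cv, w_t7, qv, qWords, img, vv, val, sg, valL, toL, List.range_succ, Nat.testBit, mul_assoc, ha, hc, hd, he,
      H40.Th.A_sq, H40.Th.C_sq, H40.Th.D_sq, H40.Th.E_sq, a2, c2, d2, e2]

theorem img_u (hI : Inj) (hne : cg .a ≠ 1) : ∀ i < 8,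
    (cg .u)⁻¹ * qv i * cg .u = vv ((img 5).getD i 0) := by
  have ha : (cg Th.Gen.a)⁻¹ = cg .a := (eq_inv_of_mul_eq_one_left H40.Th.A_sq).symm
  have hc : (cg Th.Gen.c)⁻¹ = cg .c := (eq_inv_of_mul_eq_one_left H40.Th.C_sq).symm
  have hd : (cg Th.Gen.d)⁻¹ = cg .d := (eq_inv_of_mul_eq_one_left H40.Th.D_sq).symm
  have he : (cg Th.Gen.e)⁻¹ = cg .e := (eq_inv_of_mul_eq_one_left H40.Th.E_sq).symm
  have a2 : ∀ y, cg Th.Gen.a * (cg .a * y) = y := fun y => by
    rw [← mul_assoc, H40.Th.A_sq, one_mul]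
  have c2 : ∀ y, cg Th.Gen.c * (cg .c * y) = y := fun y => by
    rw [← mul_assoc, H40.Th.C_sq, one_mul]
  have d2 : ∀ y, cg Th.Gen.d * (cg .d * y) = y := fun y => by
    rw [← mul_assoc, H40.Th.D_sq, one_mul]
  have e2 : ∀ y, cg Th.Gen.e * (cg .e * y) = y := fun y => by
    rw [← mul_assoc, H40.Th.E_sq, one_mul]
  intro i hi
  interval_cases i
  · refine of_word hI hne (w := w_u0) (by decide) chk_u0 ?_
    simp [cv, w_u0, qv, qWords, img, vv, val, sg, valL, toL, List.range_succ, Nat.testBit, mul_assoc, ha, hc, hd, he,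
      H40.Th.A_sq, H40.Th.C_sq, H40.Th.D_sq, H40.Th.E_sq, a2, c2, d2, e2]
  · refine of_word hI hne (w := w_u1) (by decide) chk_u1 ?_
    simp [cv, w_u1, qv, qWords, img, vv, val, sg, valL, toL, List.range_succ, Nat.testBit, mul_assoc, ha, hc, hd, he,
      H40.Th.A_sq, H40.Th.C_sq, H40.Th.D_sq, H40.Th.E_sq, a2, c2, d2, e2]
  · refine of_word hI hne (w := w_u2) (by decide) chk_u2 ?_
    simp [cv, w_u2, qv, qWords, img, vv, val, sg, valL, toL, List.range_succ, Nat.testBit, mul_assoc, ha, hc, hd, he,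
      H40.Th.A_sq, H40.Th.C_sq, H40.Th.D_sq, H40.Th.E_sq, a2, c2, d2, e2]
  · refine of_word hI hne (w := w_u3) (by decide) chk_u3 ?_
    simp [cv, w_u3, qv, qWords, img, vv, val, sg, valL, toL, List.range_succ, Nat.testBit, mul_assoc, ha, hc, hd, he,
      H40.Th.A_sq, H40.Th.C_sq, H40.Th.D_sq, H40.Th.E_sq, a2, c2, d2, e2]
  · refine of_word hI hne (w := w_u4) (by decide) chk_u4 ?_
    simp [cv, w_u4, qv, qWords, img, vv, val, sg, valL, toL, List.range_succ, Nat.testBit, mul_assoc, ha, hc, hd, he,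
      H40.Th.A_sq, H40.Th.C_sq, H40.Th.D_sq, H40.Th.E_sq, a2, c2, d2, e2]
  · refine of_word hI hne (w := w_u5) (by decide) chk_u5 ?_
    simp [cv, w_u5, qv, qWords, img, vv, val, sg, valL, toL, List.range_succ, Nat.testBit, mul_assoc, ha, hc, hd, he,
      H40.Th.A_sq, H40.Th.C_sq, H40.Th.D_sq, H40.Th.E_sq, a2, c2, d2, e2]
  · refine of_word hI hne (w := w_u6) (by decide) chk_u6 ?_
    simp [cv, w_u6, qv, qWords, img, vv, val, sg, valL, toL, List.range_succ, Nat.testBit, mul_assoc, ha, hc, hd, he,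
      H40.Th.A_sq, H40.Th.C_sq, H40.Th.D_sq, H40.Th.E_sq, a2, c2, d2, e2]
  · refine of_word hI hne (w := w_u7) (by decide) chk_u7 ?_
    simp [cv, w_u7, qv, qWords, img, vv, val, sg, valL, toL, List.range_succ, Nat.testBit, mul_assoc, ha, hc, hd, he,
      H40.Th.A_sq, H40.Th.C_sq, H40.Th.D_sq, H40.Th.E_sq, a2, c2, d2, e2]

end Cfsg.Agent.H83.ThOut
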