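import Mathlib

/-!
Generated: witnesses for the orbit of `c`, for the involutions over the image of `d`, and for the
sign changes of the eight generators.
-/

set_option autoImplicit false

namespace Cfsg.Agent.H83.ThOut

/-- a word moving `c` to the involution of a given code -/
def orbWord : List (List ℕ) :=
  [[],
   [],
   [1],
   [],
   [1, 2],
   [],
   [],
   [],
   [1, 2, 3],
   [],
   [],
   [],
   [],
   [],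
   [],
   [1, 0, 2, 3, 1, 5, 1, 5],
   [1, 2, 3, 1],
   [],
   [],
   [],
   [],
   [],
   [],
   [1, 5, 3, 2, 3, 4, 3],
   [],
   [],
   [],
   [1, 5, 3, 2, 4, 4],
   [],
   [1, 2, 3, 3, 5, 3],
   [1, 0, 2, 3, 3, 5, 3, 1],
   [1, 2, 3, 5, 1, 4, 5, 3],
   [1, 2, 3, 2],
   [],
   [],
   [],
   [],
   [],
   [],
   [1, 2, 3, 5, 4, 3, 5],
   [],
   [],
   [],
   [1, 0, 2, 5, 3, 5],
   [],
   [1, 2, 3, 5, 3, 5],
   [1, 5, 3, 1],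
   [1, 5, 1, 3, 5, 3, 3],
   [],
   [],
   [],
   [1, 0, 5, 3, 2, 3],
   [],
   [1, 2, 3, 5, 4],
   [1, 0, 2, 3, 3, 5, 1, 2],
   [1, 2, 3, 3, 5, 1, 5],
   [],
   [1, 0, 2, 3, 5, 3, 3, 3],
   [1, 2, 3, 5, 3, 1],
   [1, 2, 3, 5, 3, 1, 5, 4],
   [1, 5, 1, 2, 3, 1],
   [1, 2, 5, 3, 1],
   [1, 0, 5, 3, 5],
   [],
   [1, 2, 3, 3],
   [],
   [],
   [],
   [],
   [],
   [],
   [1, 0, 5, 3, 2, 3, 4, 5],
   [],
   [],
   [],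
   [1, 0, 2, 3, 1, 4, 5],
   [],
   [1, 5, 3, 2, 3, 2],
   [1, 0, 2, 3, 3, 5, 1],
   [1, 2, 3, 3, 5, 1, 2, 5],
   [],
   [],
   [],
   [1, 2, 5, 3, 5, 4],
   [],
   [1, 0, 2, 3, 5, 3, 5, 4],
   [1, 0, 5, 3, 1, 4],
   [1, 0, 5, 1, 3, 5, 3],
   [],
   [1, 5, 3, 3, 3],
   [1, 0, 2, 5, 3, 1, 5],
   [1, 0, 5, 1, 3, 5, 1],
   [1, 0, 2, 3, 5, 3, 1, 5],
   [1, 0, 2, 3, 5, 3, 1, 4, 4],
   [1, 0, 2, 3, 5, 3, 4, 4, 3],
   [],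
   [],
   [],
   [],
   [1, 2, 3, 1, 4, 5, 3],
   [],
   [1, 5, 3, 3, 4],
   [1, 2, 5, 1, 3, 3, 4],
   [1, 0, 5, 1, 3, 5, 1, 3],
   [],
   [1, 0, 2, 3, 5, 3, 3, 5],
   [1, 5, 3, 2, 5, 1],
   [1, 2, 5, 3, 1, 2],
   [1, 2, 3, 5, 3, 1, 2],
   [1, 2, 3, 5, 1, 3, 4, 4],
   [1, 5, 3, 2, 5],
   [],
   [],
   [1, 5, 3, 2, 4, 5],
   [1, 0, 2, 3, 5, 1, 3, 4],
   [1, 2, 5, 3, 1, 2, 5, 1],
   [1, 0, 2, 5, 3, 1, 2, 5],
   [1, 5, 3, 2, 4, 5, 1],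
   [1, 2, 3, 3, 5, 3, 5, 4],
   [],
   [1, 5, 1, 2, 3, 3, 3],
   [1, 0, 5, 1, 3, 3, 3],
   [1, 2, 5, 3, 3, 3],
   [],
   [1, 2, 5, 3, 3, 5],
   [],
   [],
   [],
   [1, 2, 3, 1, 4],
   [],
   [],
   [],
   [],
   [],
   [],
   [1, 2, 5, 3, 5, 1, 3],
   [],
   [],
   [],
   [1, 0, 2, 5, 3, 5, 1, 4],
   [],
   [1, 0, 5, 3, 3],
   [1, 0, 2, 5, 1, 3, 3],
   [1, 5, 1, 3, 5, 3, 1],
   [],
   [],
   [],
   [1, 5, 3, 2, 3, 4],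
   [],
   [1, 0, 2, 3, 3, 5],
   [1, 2, 3, 5, 1, 2],
   [1, 0, 2, 3, 5, 1, 4, 5],
   [],
   [1, 0, 2, 5, 3, 3, 4],
   [1, 5, 1, 2, 3, 5],
   [1, 0, 5, 1, 3, 5],
   [1, 2, 5, 3, 1, 2, 3],
   [1, 5, 3, 2, 5, 1, 3],
   [1, 2, 3, 5, 3, 4, 4],
   [],
   [],
   [],
   [],
   [1, 0, 2, 3, 1, 5, 1],
   [],
   [1, 2, 3, 5],
   [1, 0, 2, 3, 5, 1, 2, 4],
   [1, 2, 3, 5, 1, 5],
   [],
   [1, 5, 3, 2, 5, 4],
   [1, 0, 2, 3, 5, 1, 3],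
   [1, 0, 2, 3, 5, 1, 3, 5],
   [1, 2, 5, 3, 1, 2, 4],
   [1, 2, 3, 5, 1, 3, 3],
   [1, 2, 3, 3, 5, 3, 5],
   [],
   [],
   [1, 0, 5],
   [1, 0, 2, 5, 1],
   [1, 5, 1, 5, 1],
   [1, 5, 1, 5],
   [1, 5, 1],
   [1, 0, 2, 5],
   [],
   [1, 0, 2, 3, 5, 1, 5, 1],
   [1, 2, 3, 5, 1],
   [1, 5, 3, 2, 3, 2, 4],
   [],
   [1, 2, 3, 1, 5],
   [],
   [],
   [],
   [],
   [],
   [],
   [1, 5, 3, 2],
   [],
   [1, 2, 3, 5, 3, 3],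
   [1, 0, 2, 5, 1, 3, 2],
   [1, 5, 1, 5, 1, 3, 2],
   [],
   [1, 0, 2, 3, 5, 3, 4],
   [1, 2, 3, 5, 1, 4, 3],
   [1, 2, 3, 5, 1, 3, 2, 1],
   [1, 5, 1, 3, 3, 5],
   [1, 5, 1, 3, 3],
   [1, 0, 2, 5, 3, 3],
   [],
   [],
   [1, 0, 2, 3, 1, 4, 5, 3, 5],
   [1, 2, 3, 5, 3, 1, 4],
   [1, 2, 3, 5, 1, 3, 2],
   [1, 5, 1, 2, 3, 1, 4],
   [1, 2, 5, 3, 1, 4],
   [1, 0, 5, 3, 5, 4],
   [],
   [1, 2, 5, 1, 2, 3, 2, 4],
   [1, 2, 5, 1, 3, 2, 4],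
   [1, 2, 3, 5, 3, 3, 4],
   [],
   [1, 0, 5, 3, 2, 4],
   [],
   [],
   [],
   [],
   [1, 0, 2, 5, 3],
   [1, 0, 5, 1, 3],
   [1, 5, 1, 2, 3],
   [1, 0, 2, 3, 5, 1, 5, 3],
   [1, 2, 3, 5, 1, 2, 4, 3],
   [1, 2, 3, 5, 3],
   [],
   [1, 5, 1, 5, 1, 3],
   [1, 0, 2, 5, 1, 3],
   [1, 5, 3],
   [],
   [1, 0, 2, 5, 3, 5, 1],
   [],
   [],
   [],
   [1, 0, 2, 3, 5, 1, 2, 5],
   [1, 2, 3, 5, 1, 4],
   [1, 2, 3, 5, 4, 3],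
   [],
   [1, 2, 3, 2, 5],
   [],
   [],
   [],
   [1, 5, 3, 2, 3, 3],
   [],
   [],
   [],
   [],
   [],
   [],
   [1, 2, 3, 2, 1],
   [],
   [1, 0, 1],
   [1, 0],
   [],
   [1, 0, 2],
   [],
   [],
   [],
   [1, 0, 2, 3],
   [],
   [],
   [],
   [],
   [],
   [],
   [1, 2, 3, 1, 5, 1, 5],
   [1, 0, 2, 3, 1],
   [],
   [],
   [],
   [],
   [],
   [],
   [1, 0, 5, 3, 2, 3, 4, 3],
   [],
   [],
   [],
   [1, 0, 5, 3, 2, 4, 4],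
   [],
   [1, 0, 2, 3, 3, 5, 3],
   [1, 2, 3, 3, 5, 3, 1],
   [1, 0, 2, 3, 5, 1, 4, 5, 3],
   [1, 0, 2, 3, 2],
   [],
   [],
   [],
   [],
   [],
   [],
   [1, 0, 2, 3, 5, 4, 3, 5],
   [],
   [],
   [],
   [1, 2, 5, 3, 5],
   [],
   [1, 0, 2, 3, 5, 3, 5],
   [1, 0, 5, 3, 1],
   [1, 2, 5, 1, 2, 3, 1],
   [],
   [],
   [],
   [1, 5, 3, 2, 3],
   [],
   [1, 0, 2, 3, 5, 4],
   [1, 2, 3, 3, 5, 1, 2],
   [1, 0, 2, 3, 3, 5, 1, 5],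
   [],
   [1, 2, 3, 5, 3, 3, 3],
   [1, 0, 2, 3, 5, 3, 1],
   [1, 2, 3, 5, 1, 5, 3, 1],
   [1, 5, 1, 5, 3, 1],
   [1, 0, 2, 5, 3, 1],
   [1, 5, 3, 5],
   [],
   [1, 0, 2, 3, 3],
   [],
   [],
   [],
   [],
   [],
   [],
   [1, 5, 3, 2, 3, 4, 5],
   [],
   [],
   [],
   [1, 2, 3, 1, 4, 5],
   [],
   [1, 0, 5, 3, 2, 3, 2],
   [1, 2, 3, 3, 5, 1],
   [1, 0, 2, 3, 3, 5, 1, 2, 5],
   [],
   [],
   [],
   [1, 0, 2, 5, 3, 5, 4],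
   [],
   [1, 2, 3, 5, 3, 5, 4],
   [1, 5, 3, 1, 4],
   [1, 5, 1, 3, 5, 3],
   [],
   [1, 0, 5, 3, 3, 3],
   [1, 2, 5, 3, 1, 5],
   [1, 5, 1, 3, 5, 1],
   [1, 2, 3, 5, 3, 1, 5],
   [1, 2, 3, 5, 3, 1, 4, 4],
   [1, 2, 3, 5, 3, 4, 4, 3],
   [],
   [],
   [],
   [],
   [1, 0, 2, 3, 1, 4, 5, 3],
   [],
   [1, 0, 5, 3, 3, 4],
   [1, 2, 5, 3, 1, 5, 3],
   [1, 5, 1, 3, 5, 1, 3],
   [],
   [1, 2, 3, 5, 3, 3, 5],
   [1, 0, 5, 3, 2, 5, 1],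
   [1, 0, 2, 5, 3, 1, 2],
   [1, 0, 2, 3, 5, 3, 1, 2],
   [1, 0, 2, 3, 5, 1, 3, 4, 4],
   [1, 0, 5, 3, 2, 5],
   [],
   [],
   [1, 0, 5, 3, 2, 4, 5],
   [1, 2, 3, 5, 1, 3, 4],
   [1, 2, 3, 5, 1, 3, 5, 4],
   [1, 2, 5, 3, 1, 2, 5],
   [1, 5, 1, 3, 5, 1, 2],
   [1, 0, 2, 3, 3, 5, 3, 5, 4],
   [],
   [1, 5, 1, 3, 3, 5, 3],
   [1, 5, 1, 3, 3, 3],
   [1, 0, 2, 5, 3, 3, 3],
   [],
   [1, 0, 2, 5, 3, 3, 5],
   [],
   [],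
   [],
   [1, 0, 2, 3, 1, 4],
   [],
   [],
   [],
   [],
   [],
   [],
   [1, 0, 2, 5, 3, 5, 1, 3],
   [],
   [],
   [],
   [1, 2, 5, 3, 5, 1, 4],
   [],
   [1, 5, 3, 3],
   [1, 2, 5, 1, 3, 3],
   [1, 2, 5, 1, 2, 3, 3],
   [],
   [],
   [],
   [1, 0, 5, 3, 2, 3, 4],
   [],
   [1, 2, 3, 3, 5],
   [1, 0, 2, 3, 5, 1, 2],
   [1, 2, 3, 5, 1, 4, 5],
   [],
   [1, 2, 5, 3, 3, 4],
   [1, 5, 1, 3, 3, 4],
   [1, 5, 1, 3, 5],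
   [1, 0, 2, 5, 3, 1, 2, 3],
   [1, 0, 5, 3, 2, 5, 1, 3],
   [1, 0, 2, 3, 5, 3, 4, 4],
   [],
   [],
   [],
   [],
   [1, 2, 3, 1, 5, 1],
   [],
   [1, 0, 2, 3, 5],
   [1, 2, 3, 5, 1, 2, 4],
   [1, 0, 2, 3, 5, 1, 5],
   [],
   [1, 0, 5, 3, 2, 5, 4],
   [1, 2, 3, 5, 1, 3],
   [1, 2, 3, 5, 1, 3, 5],
   [1, 0, 2, 5, 3, 1, 2, 4],
   [1, 0, 2, 3, 5, 1, 3, 3],
   [1, 0, 2, 3, 3, 5, 3, 5],
   [],
   [],
   [1, 5],
   [1, 2, 5, 1],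
   [1, 2, 5, 1, 2],
   [1, 5, 1, 2],
   [1, 0, 5, 1],
   [1, 2, 5],
   [],
   [1, 2, 3, 5, 1, 5, 1],
   [1, 0, 2, 3, 5, 1],
   [1, 0, 5, 3, 2, 3, 2, 4],
   [],
   [1, 0, 2, 3, 1, 5],
   [],
   [],
   [],
   [],
   [],
   [],
   [1, 0, 5, 3, 2],
   [],
   [1, 0, 2, 3, 5, 3, 3],
   [1, 2, 5, 1, 3, 2],
   [1, 2, 5, 1, 2, 3, 2],
   [],
   [1, 2, 3, 5, 3, 4],
   [1, 0, 2, 3, 5, 1, 4, 3],
   [1, 2, 3, 5, 1, 2, 5, 3],
   [1, 5, 1, 2, 3, 3],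
   [1, 0, 5, 1, 3, 3],
   [1, 2, 5, 3, 3],
   [],
   [],
   [1, 2, 3, 1, 4, 5, 3, 5],
   [1, 0, 2, 3, 5, 3, 1, 4],
   [1, 0, 2, 3, 5, 1, 3, 2],
   [1, 5, 1, 3, 3, 5, 1],
   [1, 0, 2, 5, 3, 1, 4],
   [1, 5, 3, 5, 4],
   [],
   [1, 5, 1, 3, 5, 3, 1, 2],
   [1, 0, 2, 5, 1, 3, 2, 4],
   [1, 0, 2, 3, 5, 3, 3, 4],
   [],
   [1, 5, 3, 2, 4],
   [],
   [],
   [],
   [],
   [1, 2, 5, 3],
   [1, 5, 1, 3],
   [1, 5, 1, 5, 3],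
   [1, 2, 3, 5, 1, 5, 3],
   [1, 2, 3, 5, 1, 5, 3, 2],
   [1, 0, 2, 3, 5, 3],
   [],
   [1, 2, 5, 1, 2, 3],
   [1, 2, 5, 1, 3],
   [1, 0, 5, 3],
   [],
   [1, 2, 5, 3, 5, 1],
   [],
   [],
   [],
   [1, 2, 3, 5, 1, 2, 5],
   [1, 0, 2, 3, 5, 1, 4],
   [1, 0, 2, 3, 5, 4, 3],
   [],
   [1, 0, 2, 3, 2, 5],
   [],
   [],
   [],
   [1, 0, 5, 3, 2, 3, 3],
   [],
   [],
   [],
   [],
   [],
   [],
   [1, 0, 2, 3, 2, 1]]

/-- pairs moving `d` to a given involution over its image -/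
def dPair : List (ℕ × ℕ) :=
  [(0, 0),
   (0, 0),
   (0, 0),
   (2, 2),
   (105, 105),
   (0, 0),
   (0, 0),
   (360, 104),
   (0, 0),
   (0, 0),
   (0, 0),
   (0, 0),
   (0, 0),
   (0, 0),
   (0, 0),
   (0, 0),
   (0, 0),
   (0, 0),
   (0, 0),
   (0, 0),
   (0, 0),
   (0, 0),
   (0, 0),
   (0, 0),
   (267, 11),
   (0, 0),
   (0, 0),
   (265, 9),
   (353, 97),
   (0, 0),
   (0, 0),
   (352, 96),
   (0, 0),
   (0, 0),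
   (0, 0),
   (0, 0),
   (0, 0),
   (0, 0),
   (0, 0),
   (0, 0),
   (0, 0),
   (0, 0),
   (0, 0),
   (0, 0),
   (0, 0),
   (0, 0),
   (0, 0),
   (0, 0),
   (0, 0),
   (0, 0),
   (0, 0),
   (0, 0),
   (0, 0),
   (0, 0),
   (0, 0),
   (0, 0),
   (0, 0),
   (0, 0),
   (0, 0),
   (0, 0),
   (0, 0),
   (0, 0),
   (0, 0),
   (0, 0),
   (0, 0),
   (0, 0),
   (0, 0),
   (0, 0),
   (0, 0),
   (0, 0),
   (0, 0),
   (0, 0),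
   (0, 0),
   (0, 0),
   (0, 0),
   (0, 0),
   (0, 0),
   (0, 0),
   (0, 0),
   (0, 0),
   (0, 0),
   (0, 0),
   (0, 0),
   (0, 0),
   (0, 0),
   (0, 0),
   (0, 0),
   (0, 0),
   (0, 0),
   (0, 0),
   (0, 0),
   (0, 0),
   (0, 0),
   (0, 0),
   (0, 0),
   (0, 0),
   (0, 0),
   (0, 0),
   (0, 0),
   (0, 0),
   (0, 0),
   (0, 0),
   (0, 0),
   (0, 0),
   (0, 0),
   (0, 0),
   (0, 0),
   (0, 0),
   (0, 0),
   (0, 0),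
   (0, 0),
   (0, 0),
   (0, 0),
   (0, 0),
   (0, 0),
   (0, 0),
   (0, 0),
   (0, 0),
   (0, 0),
   (0, 0),
   (0, 0),
   (0, 0),
   (0, 0),
   (0, 0),
   (0, 0),
   (0, 0),
   (0, 0),
   (0, 0),
   (0, 0),
   (0, 0),
   (0, 0),
   (0, 0),
   (0, 0),
   (0, 0),
   (0, 0),
   (0, 0),
   (0, 0),
   (0, 0),
   (0, 0),
   (0, 0),
   (0, 0),
   (0, 0),
   (0, 0),
   (0, 0),
   (0, 0),
   (0, 0),
   (0, 0),
   (0, 0),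
   (0, 0),
   (0, 0),
   (0, 0),
   (0, 0),
   (0, 0),
   (0, 0),
   (0, 0),
   (0, 0),
   (0, 0),
   (0, 0),
   (0, 0),
   (0, 0),
   (0, 0),
   (0, 0),
   (0, 0),
   (0, 0),
   (0, 0),
   (0, 0),
   (0, 0),
   (0, 0),
   (0, 0),
   (0, 0),
   (0, 0),
   (0, 0),
   (0, 0),
   (0, 0),
   (0, 0),
   (0, 0),
   (0, 0),
   (0, 0),
   (0, 0),
   (0, 0),
   (0, 0),
   (0, 0),
   (0, 0),
   (0, 0),
   (0, 0),
   (0, 0),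
   (0, 0),
   (0, 0),
   (0, 0),
   (0, 0),
   (0, 0),
   (0, 0),
   (323, 67),
   (0, 0),
   (0, 0),
   (321, 65),
   (297, 41),
   (0, 0),
   (0, 0),
   (296, 40),
   (0, 0),
   (0, 0),
   (0, 0),
   (0, 0),
   (0, 0),
   (0, 0),
   (0, 0),
   (0, 0),
   (0, 0),
   (0, 0),
   (0, 0),
   (0, 0),
   (0, 0),
   (0, 0),
   (0, 0),
   (0, 0),
   (328, 72),
   (0, 0),
   (0, 0),
   (330, 74),
   (289, 33),
   (0, 0),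
   (0, 0),
   (32, 32),
   (0, 0),
   (0, 0),
   (0, 0),
   (0, 0),
   (0, 0),
   (0, 0),
   (0, 0),
   (0, 0),
   (0, 0),
   (0, 0),
   (0, 0),
   (0, 0),
   (0, 0),
   (0, 0),
   (0, 0),
   (0, 0),
   (0, 0),
   (0, 0),
   (0, 0),
   (0, 0),
   (0, 0),
   (0, 0),
   (0, 0),
   (0, 0),
   (0, 0),
   (0, 0),
   (0, 0),
   (0, 0),
   (0, 0),
   (0, 0),
   (0, 0),
   (0, 0),
   (259, 3),
   (0, 0),
   (0, 0),
   (1, 1),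
   (106, 106),
   (0, 0),
   (0, 0),
   (107, 107),
   (0, 0),
   (0, 0),
   (0, 0),
   (0, 0),
   (0, 0),
   (0, 0),
   (0, 0),
   (0, 0),
   (0, 0),
   (0, 0),
   (0, 0),
   (0, 0),
   (0, 0),
   (0, 0),
   (0, 0),
   (0, 0),
   (8, 8),
   (0, 0),
   (0, 0),
   (266, 10),
   (354, 98),
   (0, 0),
   (0, 0),
   (99, 99),
   (0, 0),
   (0, 0),
   (0, 0),
   (0, 0),
   (0, 0),
   (0, 0),
   (0, 0),
   (0, 0),
   (0, 0),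
   (0, 0),
   (0, 0),
   (0, 0),
   (0, 0),
   (0, 0),
   (0, 0),
   (0, 0),
   (0, 0),
   (0, 0),
   (0, 0),
   (0, 0),
   (0, 0),
   (0, 0),
   (0, 0),
   (0, 0),
   (0, 0),
   (0, 0),
   (0, 0),
   (0, 0),
   (0, 0),
   (0, 0),
   (0, 0),
   (0, 0),
   (0, 0),
   (0, 0),
   (0, 0),
   (0, 0),
   (0, 0),
   (0, 0),
   (0, 0),
   (0, 0),
   (0, 0),
   (0, 0),
   (0, 0),
   (0, 0),
   (0, 0),
   (0, 0),
   (0, 0),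
   (0, 0),
   (0, 0),
   (0, 0),
   (0, 0),
   (0, 0),
   (0, 0),
   (0, 0),
   (0, 0),
   (0, 0),
   (0, 0),
   (0, 0),
   (0, 0),
   (0, 0),
   (0, 0),
   (0, 0),
   (0, 0),
   (0, 0),
   (0, 0),
   (0, 0),
   (0, 0),
   (0, 0),
   (0, 0),
   (0, 0),
   (0, 0),
   (0, 0),
   (0, 0),
   (0, 0),
   (0, 0),
   (0, 0),
   (0, 0),
   (0, 0),
   (0, 0),
   (0, 0),
   (0, 0),
   (0, 0),
   (0, 0),
   (0, 0),
   (0, 0),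
   (0, 0),
   (0, 0),
   (0, 0),
   (0, 0),
   (0, 0),
   (0, 0),
   (0, 0),
   (0, 0),
   (0, 0),
   (0, 0),
   (0, 0),
   (0, 0),
   (0, 0),
   (0, 0),
   (0, 0),
   (0, 0),
   (0, 0),
   (0, 0),
   (0, 0),
   (0, 0),
   (0, 0),
   (0, 0),
   (0, 0),
   (0, 0),
   (0, 0),
   (0, 0),
   (0, 0),
   (0, 0),
   (0, 0),
   (0, 0),
   (0, 0),
   (0, 0),
   (0, 0),
   (0, 0),
   (0, 0),
   (0, 0),
   (0, 0),
   (0, 0),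
   (0, 0),
   (0, 0),
   (0, 0),
   (0, 0),
   (0, 0),
   (0, 0),
   (0, 0),
   (0, 0),
   (0, 0),
   (0, 0),
   (0, 0),
   (0, 0),
   (0, 0),
   (0, 0),
   (0, 0),
   (0, 0),
   (0, 0),
   (0, 0),
   (0, 0),
   (0, 0),
   (0, 0),
   (0, 0),
   (0, 0),
   (0, 0),
   (0, 0),
   (0, 0),
   (0, 0),
   (0, 0),
   (0, 0),
   (0, 0),
   (0, 0),
   (0, 0),
   (0, 0),
   (0, 0),
   (0, 0),
   (0, 0),
   (0, 0),
   (64, 64),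
   (0, 0),
   (0, 0),
   (322, 66),
   (298, 42),
   (0, 0),
   (0, 0),
   (43, 43),
   (0, 0),
   (0, 0),
   (0, 0),
   (0, 0),
   (0, 0),
   (0, 0),
   (0, 0),
   (0, 0),
   (0, 0),
   (0, 0),
   (0, 0),
   (0, 0),
   (0, 0),
   (0, 0),
   (0, 0),
   (0, 0),
   (75, 75),
   (0, 0),
   (0, 0),
   (329, 73),
   (290, 34),
   (0, 0),
   (0, 0),
   (291, 35),
   (0, 0),
   (0, 0),
   (0, 0),
   (0, 0),
   (0, 0),
   (0, 0),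
   (0, 0),
   (0, 0),
   (0, 0),
   (0, 0),
   (0, 0),
   (0, 0),
   (0, 0),
   (0, 0),
   (0, 0),
   (0, 0),
   (0, 0),
   (0, 0),
   (0, 0),
   (0, 0),
   (0, 0),
   (0, 0),
   (0, 0),
   (0, 0),
   (0, 0),
   (0, 0),
   (0, 0),
   (0, 0),
   (0, 0),
   (0, 0),
   (0, 0),
   (0, 0)]

/-- pairs realising a given sign change -/
def sgnPair : List (ℕ × ℕ) :=
  [(0, 0),
   (510, 254),
   (509, 253),
   (259, 3),
   (507, 251),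
   (261, 5),
   (262, 6),
   (248, 248),
   (503, 247),
   (265, 9),
   (266, 10),
   (244, 244),
   (268, 12),
   (242, 242),
   (241, 241),
   (15, 15),
   (495, 239),
   (273, 17),
   (274, 18),
   (236, 236),
   (276, 20),
   (234, 234),
   (233, 233),
   (23, 23),
   (280, 24),
   (230, 230),
   (229, 229),
   (27, 27),
   (227, 227),
   (29, 29),
   (30, 30),
   (480, 224),
   (479, 223),
   (289, 33),
   (290, 34),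
   (220, 220),
   (292, 36),
   (218, 218),
   (217, 217),
   (39, 39),
   (296, 40),
   (214, 214),
   (213, 213),
   (43, 43),
   (211, 211),
   (45, 45),
   (46, 46),
   (464, 208),
   (304, 48),
   (206, 206),
   (205, 205),
   (51, 51),
   (203, 203),
   (53, 53),
   (54, 54),
   (456, 200),
   (199, 199),
   (57, 57),
   (58, 58),
   (452, 196),
   (60, 60),
   (450, 194),
   (449, 193),
   (319, 63),
   (447, 191),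
   (321, 65),
   (322, 66),
   (188, 188),
   (324, 68),
   (186, 186),
   (185, 185),
   (71, 71),
   (328, 72),
   (182, 182),
   (181, 181),
   (75, 75),
   (179, 179),
   (77, 77),
   (78, 78),
   (432, 176),
   (336, 80),
   (174, 174),
   (173, 173),
   (83, 83),
   (171, 171),
   (85, 85),
   (86, 86),
   (424, 168),
   (167, 167),
   (89, 89),
   (90, 90),
   (420, 164),
   (92, 92),
   (418, 162),
   (417, 161),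
   (351, 95),
   (352, 96),
   (158, 158),
   (157, 157),
   (99, 99),
   (155, 155),
   (101, 101),
   (102, 102),
   (408, 152),
   (151, 151),
   (105, 105),
   (106, 106),
   (404, 148),
   (108, 108),
   (402, 146),
   (401, 145),
   (367, 111),
   (143, 143),
   (113, 113),
   (114, 114),
   (396, 140),
   (116, 116),
   (394, 138),
   (393, 137),
   (375, 119),
   (120, 120),
   (390, 134),
   (389, 133),
   (379, 123),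
   (387, 131),
   (381, 125),
   (382, 126),
   (128, 128),
   (383, 127),
   (385, 129),
   (386, 130),
   (124, 124),
   (388, 132),
   (122, 122),
   (121, 121),
   (135, 135),
   (392, 136),
   (118, 118),
   (117, 117),
   (139, 139),
   (115, 115),
   (141, 141),
   (142, 142),
   (368, 112),
   (400, 144),
   (110, 110),
   (109, 109),
   (147, 147),
   (107, 107),
   (149, 149),
   (150, 150),
   (360, 104),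
   (103, 103),
   (153, 153),
   (154, 154),
   (356, 100),
   (156, 156),
   (354, 98),
   (353, 97),
   (415, 159),
   (416, 160),
   (94, 94),
   (93, 93),
   (163, 163),
   (91, 91),
   (165, 165),
   (166, 166),
   (344, 88),
   (87, 87),
   (169, 169),
   (170, 170),
   (340, 84),
   (172, 172),
   (338, 82),
   (337, 81),
   (431, 175),
   (79, 79),
   (177, 177),
   (178, 178),
   (332, 76),
   (180, 180),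
   (330, 74),
   (329, 73),
   (439, 183),
   (184, 184),
   (326, 70),
   (325, 69),
   (443, 187),
   (323, 67),
   (445, 189),
   (446, 190),
   (64, 64),
   (448, 192),
   (62, 62),
   (61, 61),
   (195, 195),
   (59, 59),
   (197, 197),
   (198, 198),
   (312, 56),
   (55, 55),
   (201, 201),
   (202, 202),
   (308, 52),
   (204, 204),
   (306, 50),
   (305, 49),
   (463, 207),
   (47, 47),
   (209, 209),
   (210, 210),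
   (300, 44),
   (212, 212),
   (298, 42),
   (297, 41),
   (471, 215),
   (216, 216),
   (294, 38),
   (293, 37),
   (475, 219),
   (291, 35),
   (477, 221),
   (478, 222),
   (32, 32),
   (31, 31),
   (225, 225),
   (226, 226),
   (284, 28),
   (228, 228),
   (282, 26),
   (281, 25),
   (487, 231),
   (232, 232),
   (278, 22),
   (277, 21),
   (491, 235),
   (275, 19),
   (493, 237),
   (494, 238),
   (16, 16),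
   (240, 240),
   (270, 14),
   (269, 13),
   (499, 243),
   (267, 11),
   (501, 245),
   (502, 246),
   (8, 8),
   (263, 7),
   (505, 249),
   (506, 250),
   (4, 4),
   (508, 252),
   (2, 2),
   (1, 1),
   (255, 255)]

end Cfsg.Agent.H83.ThOut
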