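import Cfsg.Agent.H83.ThOut.Struct
import Cfsg.Agent.H83.ThOut.Tables

/-!
Every involution of the involution centraliser of the presented Thompson group is conjugate in it
to `a`, `c` or `d`.
-/

set_option autoImplicit false

namespace Cfsg.Agent.H83.ThOut

open Cfsg.Spor Cfsg.Agent.H32 ThRep
open Cfsg.Agent.H40.Th (CC cg QQ)
open Cfsg.Agent.H45 (evalW sig)

attribute [local irreducible] ThRep.gm ThRep.gi ThRep.mat ThRep.rep248 ThRep.chk ThRep.okMat
  ThRep.idN

set_option maxRecDepth 100000 in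
theorem orb_check : ∀ n < 512, qm n n = 0 → n = 0 ∨ n = 256 ∨
    actW (orbWord.getD n []) 1 = n := by decide +kernel

set_option maxRecDepth 100000 in
theorem d_check : ∀ n < 512, qm (act (img 1) n) n = 0 →
    (dPair.getD n (0, 0)).1 < 512 ∧ (dPair.getD n (0, 0)).2 < 512 ∧
    qm (dPair.getD n (0, 0)).1 (dPair.getD n (0, 0)).2 = 0 ∧
    qm (act (img 1) (dPair.getD n (0, 0)).1) (dPair.getD n (0, 0)).2 = n := by decide +kernel

set_option maxRecDepth 100000 in
theorem u_check : ∀ n < 512, qm 257 (qm (act (img 5) n) n) ≠ 0 := by decide +kernel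

open Equiv in
set_option maxRecDepth 100000 in
theorem pd_odd : ∃ τ : Perm (Fin 9), Perm.sign τ = -1 ∧ τ * pL 1 = pL 1 * τ :=
  ⟨swap 0 (pL 1 0), by decide +kernel⟩

open Equiv in
set_option maxRecDepth 100000 in
theorem pu_odd : ∃ τ : Perm (Fin 9), Perm.sign τ = -1 ∧ τ * pL 5 = pL 5 * τ := by
  decide +kernel

open Equiv in
/-- the two classes of involutions of the alternating group of degree nine -/
theorem alt_invol {σ : Perm (Fin 9)} (hs : σ ∈ alternatingGroup (Fin 9)) (h2 : σ * σ = 1)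
    (h1 : σ ≠ 1) : ∃ m ∈ alternatingGroup (Fin 9), m * σ * m⁻¹ = pL 1 ∨ m * σ * m⁻¹ = pL 5 := by
  have ord : ∀ {x : Perm (Fin 9)}, x * x = 1 → x ≠ 1 → orderOf x = 2 := fun hx hne =>
    orderOf_eq_prime (p := 2) (hp := ⟨Nat.prime_two⟩) (by rw [pow_two]; exact hx) hne
  have hcls : ∀ x : Perm (Fin 9), x * x = 1 → x ≠ 1 → Perm.sign x = 1 →
      x.cycleType = Multiset.replicate 2 2 ∨ x.cycleType = Multiset.replicate 4 2 := by
    intro x hx hne hsx
    obtain ⟨k, hk⟩ := Perm.cycleType_prime_order (σ := x) (by rw [ord hx hne]; exact Nat.prime_two)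
    rw [ord hx hne] at hk
    have hsum := Perm.sum_cycleType_le x
    rw [hk, Multiset.sum_replicate, Fintype.card_fin, smul_eq_mul] at hsum
    rw [Perm.sign_of_cycleType, hk, Multiset.sum_replicate, Multiset.card_replicate] at hsx
    rcases (show k = 0 ∨ k = 1 ∨ k = 2 ∨ k = 3 by omega) with rfl | rfl | rfl | rfl
    · exact absurd hsx (by decide)
    · exact Or.inl hk
    · exact absurd hsx (by decide)
    · exact Or.inr hk
  have hd : pL 1 * pL 1 = 1 ∧ pL 1 ≠ 1 ∧ Perm.sign (pL 1) = 1 := by decide +kernel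
  have hu : pL 5 * pL 5 = 1 ∧ pL 5 ≠ 1 ∧ Perm.sign (pL 5) = 1 := by decide +kernel
  have hne : ¬ (pL 1).support.card = (pL 5).support.card := by decide +kernel
  have hsame : ∀ {x y : Perm (Fin 9)}, x.cycleType = y.cycleType → ∀ τ : Perm (Fin 9),
      Perm.sign τ = -1 → τ * y = y * τ → ∃ m ∈ alternatingGroup (Fin 9), m * x * m⁻¹ = y := by
    intro x y hxy τ hτ hcomm
    obtain ⟨c, hc⟩ := isConj_iff.1 (Perm.isConj_iff_cycleType_eq.2 hxy)
    rcases Int.units_eq_one_or (Perm.sign c) with h | h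
    · exact ⟨c, Perm.mem_alternatingGroup.2 h, hc⟩
    · refine ⟨τ * c, Perm.mem_alternatingGroup.2 (by rw [map_mul, hτ, h]; decide), ?_⟩
      rw [mul_inv_rev, show τ * c * x * (c⁻¹ * τ⁻¹) = τ * (c * x * c⁻¹) * τ⁻¹ by group, hc, hcomm,
        mul_inv_cancel_right]
  obtain ⟨τd, hτd, hcd⟩ := pd_odd
  obtain ⟨τu, hτu, hcu⟩ := pu_odd
  have hct : ∀ x : Perm (Fin 9), x.support.card = x.cycleType.sum := fun x =>
    (Perm.sum_cycleType x).symm
  rw [hct, hct] at hne
  rcases hcls σ h2 h1 (Perm.mem_alternatingGroup.1 hs) with h | h <;>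
    rcases hcls _ hd.1 hd.2.1 hd.2.2 with h' | h' <;>
    rcases hcls _ hu.1 hu.2.1 hu.2.2 with h'' | h''
  all_goals first
    | exact absurd (congrArg Multiset.sum (h'.trans h''.symm)) hne
    | (have he : σ.cycleType = (pL 1).cycleType := by rw [h, h']
       obtain ⟨m, hm, e⟩ := hsame he τd hτd hcd
       exact ⟨m, hm, Or.inl e⟩)
    | (have he : σ.cycleType = (pL 5).cycleType := by rw [h, h'']
       obtain ⟨m, hm, e⟩ := hsame he τu hτu hcu
       exact ⟨m, hm, Or.inr e⟩)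

/-- the conjugacy classes of involutions -/
theorem Ctx.invol (h : Ctx) {x : CC} (hx : x * x = 1) (hne : x ≠ 1) :
    ∃ m : CC, m * x * m⁻¹ = cg .a ∨ m * x * m⁻¹ = cg .c ∨ m * x * m⁻¹ = cg .d := by
  have hQ : ∀ {n : ℕ}, n < 512 → (vv n * vv n = 1 ↔ qm n n = 0) := by
    intro n hn
    rw [← vv_qm h.a_ne hn, ← vv_zero]
    exact ⟨fun e => h.vv_inj (qm_lt hn) (by norm_num) e, fun e => by rw [e]⟩
  by_cases hp : piC x = 1
  · obtain ⟨n, hn, rfl⟩ := h.vv_surj (piC_eq_one.1 hp)
    rcases orb_check n hn ((hQ hn).1 hx) with rfl | rfl | hw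
    · exact absurd vv_zero hne
    · exact ⟨1, Or.inl (by rw [vv_256]; simp)⟩
    · refine ⟨eW (orbWord.getD n []), Or.inr (Or.inl ?_)⟩
      have := h.vv_actW (orbWord.getD n []) 1
      rw [hw, vv_one] at this
      rw [this]
      group
  · have hmem : piC x ∈ alternatingGroup (Fin 9) := piC_range ▸ ⟨x, rfl⟩
    obtain ⟨m, hm, hcase⟩ := alt_invol hmem (by rw [← map_mul, hx, map_one]) hp
    obtain ⟨m', rfl⟩ : ∃ m', piC m' = m := by
      rw [← piC_range] at hm; exact hm
    rw [← map_inv, ← map_mul, ← map_mul] at hcase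
    set y := m' * x * m'⁻¹ with hy
    have hy2 : y * y = 1 := by
      rw [hy, show m' * x * m'⁻¹ * (m' * x * m'⁻¹) = m' * (x * x) * m'⁻¹ by group, hx, mul_one,
        mul_inv_cancel]
    have key : ∀ l, piC y = pL l → ∃ n < 512, y = eC l * vv n := by
      intro l hl
      obtain ⟨n, hn, e⟩ := h.vv_surj (x := (eC l)⁻¹ * y) (piC_eq_one.1 (by
        rw [map_mul, map_inv, piC_eC, hl, inv_mul_cancel]))
      exact ⟨n, hn, by rw [← e, mul_inv_cancel_left]⟩
    have hsq : ∀ l, l < 6 → ∀ n, (eC l * vv n) * (eC l * vv n) =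
        eC l * eC l * (vv (act (img l) n) * vv n) := by
      intro l hl n
      rw [h.vv_act hl]
      group
    rcases hcase with hl | hl
    · obtain ⟨n, hn, e⟩ := key 1 hl
      rw [e, hsq 1 (by norm_num), show eC 1 * eC 1 = 1 from H40.Th.D_sq, one_mul,
        ← vv_qm h.a_ne hn, ← vv_zero] at hy2
      obtain ⟨hk', hk, hinv, hd⟩ := d_check n hn (h.vv_inj (qm_lt hn) (by norm_num) hy2)
      set k' := (dPair.getD n (0, 0)).1
      set k := (dPair.getD n (0, 0)).2
      have hi : vv k' = (vv k)⁻¹ := eq_inv_of_mul_eq_one_left (by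
        rw [← vv_qm h.a_ne hk, hinv, vv_zero])
      refine ⟨vv k * m', Or.inr (Or.inr ?_)⟩
      rw [show vv k * m' * x * (vv k * m')⁻¹ = vv k * y * (vv k)⁻¹ by rw [hy]; group, e,
        ← hd, vv_qm h.a_ne hk, h.vv_act (by norm_num), hi]
      show _ = eC 1
      group
    · obtain ⟨n, hn, e⟩ := key 5 hl
      have hu2 : eC 5 * eC 5 = vv 257 := by
        have hu := H40.Th.crel_getD 27 (by decide)
        simp [Th.extra, pow_two] at hu
        have h257 : vv 257 = cg .a * cg .c := by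
          simp [vv, val, sg, valL, toL, List.range_succ, Nat.testBit, qv, cv, qWords]
        rw [h257]
        show cg Th.Gen.u * cg .u = _
        exact mul_inv_eq_one.1 hu
      rw [e, hsq 5 (by norm_num), hu2, ← vv_qm h.a_ne hn, ← vv_qm h.a_ne (qm_lt hn),
        ← vv_zero] at hy2
      exact absurd (h.vv_inj (qm_lt (qm_lt hn)) (by norm_num) hy2) (u_check n hn)

end Cfsg.Agent.H83.ThOut
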