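import Cfsg.Agent.H83.ThOut.AutC
import Cfsg.Prelude.Def_KGroupFacts

/-!
Every automorphism of the presented Thompson group is inner, given that the group is simple of the
expected order and that the centraliser of `a` is `⟨a, c, d, e, s, t, u⟩` of order 92897280.
-/

set_option autoImplicit false

namespace Cfsg.Agent.H83.ThOut

open Cfsg.Spor Cfsg.Agent.H32 ThRep
open Cfsg.Agent.H40.Th (CC cg QQ wval)
open Cfsg.Agent.H45 (evalW sig)
open Equiv (Perm)
open scoped Pointwise

attribute [local irreducible] ThRep.gm ThRep.gi ThRep.mat ThRep.rep248 ThRep.chk ThRep.okMat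
  ThRep.idN

local notation "gA" => H40.Th.gen Cfsg.Spor.Th.Gen.a
local notation "gB" => H40.Th.gen Cfsg.Spor.Th.Gen.b
local notation "gC" => H40.Th.gen Cfsg.Spor.Th.Gen.c
local notation "gD" => H40.Th.gen Cfsg.Spor.Th.Gen.d
local notation "gE" => H40.Th.gen Cfsg.Spor.Th.Gen.e
local notation "gS" => H40.Th.gen Cfsg.Spor.Th.Gen.s
local notation "gU" => H40.Th.gen Cfsg.Spor.Th.Gen.u

/-- the hypotheses on the presented group -/
structure Hyp : Prop where
  isTh : Cfsg.IsTh Th
  card : Nat.card CC = 92897280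
  cent : Subgroup.centralizer {gA} = CC

theorem Hyp.fin (h : Hyp) : Finite Th :=
  Nat.finite_of_card_ne_zero (by rw [h.isTh.2]; norm_num)

theorem rm_a_ne : H40.Th.rm gA ≠ 1 := by
  intro h1
  rw [H40.Th.rm_gen] at h1
  have h2 := congrFun (congrFun h1 (120 : Fin 248)) 120
  rw [show ∀ X : ℕ, ∀ i j : Fin 248, mat 248 X i j = (ent 248 X i j : ZMod 3) from
      fun X i j => by unfold ThRep.mat; rfl, Matrix.one_apply_eq,
    ← Nat.cast_one (R := ZMod 3), ZMod.natCast_eq_natCast_iff'] at h2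
  have h3 : Nat.beq (ent 248 (gm Th.Gen.a) 120 120 % 3) 1 = true := by
    rw [Nat.beq_eq]; exact h2
  rw [ent_a] at h3
  exact Bool.noConfusion h3

theorem Hyp.inj (h : Hyp) : Inj := by
  haveI := h.isTh.1
  rcases (inferInstance : (ThRep.rep248).ker.Normal).eq_bot_or_eq_top with hb | hb
  · exact (MonoidHom.ker_eq_bot_iff _).mp hb
  · exfalso
    apply rm_a_ne
    have h1 : ThRep.rep248 gA = 1 := by
      rw [← MonoidHom.mem_ker, hb]; exact Subgroup.mem_top _
    simp [H40.Th.rm, h1]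

theorem Hyp.ctx (h : Hyp) : Ctx := ⟨h.inj, h.card⟩

/-- the element `bacb` exchanging `a` and `c` -/
def gG : Th := gB * gA * gC * gB

/-- the element carrying `a` to `d` -/
def gH : Th :=
  gE * gC * gD * gU⁻¹ * gB * gA * gC * gB * gD * gU⁻¹ * gE * gD * gB * gA * gC * gB

theorem gen_sq {x : Th.Gen} (hx : x ≠ .b) (h : cg x * cg x = 1) :
    H40.Th.gen x * H40.Th.gen x = 1 := by
  rw [← cg_val hx, ← Subgroup.coe_mul, h]; rfl

theorem gG_sq (hI : Inj) : gG * gG = 1 := by
  have h := wval_one hI chk_swapInv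
  simpa [w_swapInv, wval, gG, mul_assoc] using h

theorem gG_conj (hI : Inj) : gG * gA * gG = gC := by
  have h := wval_one hI chk_swap
  have h' : gG * gA * gG * gC = 1 := by simpa [w_swap, wval, gG, mul_assoc] using h
  rw [eq_inv_of_mul_eq_one_left h']
  exact inv_eq_of_mul_eq_one_right (gen_sq (by decide) H40.Th.C_sq)

theorem gH_conj (hI : Inj) : gH * gA * gH⁻¹ = gD := by
  have h := wval_one hI chk_move
  have ia : (gA)⁻¹ = gA := inv_eq_of_mul_eq_one_right (gen_sq (by decide) H40.Th.A_sq)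
  have ic : (gC)⁻¹ = gC := inv_eq_of_mul_eq_one_right (gen_sq (by decide) H40.Th.C_sq)
  have id' : (gD)⁻¹ = gD := inv_eq_of_mul_eq_one_right (gen_sq (by decide) H40.Th.D_sq)
  have ie : (gE)⁻¹ = gE := inv_eq_of_mul_eq_one_right (gen_sq (by decide) H40.Th.E_sq)
  have ib : (gB)⁻¹ = gB := by
    have := H40.Th.rel_getD 1
    simp [Th.extra, pow_two] at this
    exact inv_eq_of_mul_eq_one_right this
  have h' : gH * gA * gH⁻¹ * gD = 1 := by
    simpa [w_move, wval, gH, mul_assoc, mul_inv_rev, ia, ib, ic, id', ie] using h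
  rw [eq_inv_of_mul_eq_one_left h', id']

/-- involutions are conjugate to `a` -/
theorem Hyp.conj_a (h : Hyp) {y : Th} (hy : y * y = 1) (hne : y ≠ 1) :
    ∃ g : Th, g * y * g⁻¹ = gA := by
  have := h.fin
  haveI : Fact (Nat.Prime 2) := ⟨Nat.prime_two⟩
  have hC := h.ctx
  have hf : (92897280 : ℕ).factorization 2 = 15 := by
    rw [show (92897280 : ℕ) = 2 ^ 15 * 2835 from rfl,
      Nat.factorization_mul (by norm_num) (by norm_num), Nat.factorization_pow]
    simp [Nat.Prime.factorization_self Nat.prime_two,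
      Nat.factorization_eq_zero_of_not_dvd (show ¬ 2 ∣ 2835 by norm_num)]
  have hg : (90745943887872000 : ℕ).factorization 2 = 15 := by
    rw [show (90745943887872000 : ℕ) = 2 ^ 15 * 2769346432125 from rfl,
      Nat.factorization_mul (by norm_num) (by norm_num), Nat.factorization_pow]
    simp [Nat.Prime.factorization_self Nat.prime_two,
      Nat.factorization_eq_zero_of_not_dvd (show ¬ 2 ∣ 2769346432125 by norm_num)]
  let P₀ : Sylow 2 CC := default
  let P : Sylow 2 Th := Sylow.ofCard ((P₀ : Subgroup CC).map CC.subtype) (by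
    rw [Nat.card_congr ((P₀ : Subgroup CC).equivMapOfInjective _ CC.subtype_injective).symm.toEquiv,
      P₀.card_eq_multiplicity, h.card, h.isTh.2, hf, hg])
  obtain ⟨R, hR⟩ := (IsPGroup.of_card (p := 2) (n := 1) (G := Subgroup.zpowers y) (by
    rw [Nat.card_zpowers, pow_one]
    exact orderOf_eq_prime (by rw [pow_two]; exact hy) hne)).exists_le_sylow
  obtain ⟨g, hgR⟩ := MulAction.exists_smul_eq Th R P
  have h1 : MulAut.conj g • y ∈ MulAut.conj g • (R : Subgroup Th) :=
    Subgroup.smul_mem_pointwise_smul _ _ _ (hR (Subgroup.mem_zpowers y))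
  have h2 : MulAut.conj g • (R : Subgroup Th) = (P₀ : Subgroup CC).map CC.subtype :=
    congrArg Sylow.toSubgroup hgR
  rw [h2] at h1
  obtain ⟨x, -, hx⟩ := h1
  have hx' : ((x : CC) : Th) = g * y * g⁻¹ := hx
  obtain ⟨m, hm⟩ := hC.invol (x := x) (Subtype.ext (by
      rw [Subgroup.coe_mul, hx', show g * y * g⁻¹ * (g * y * g⁻¹) = g * (y * y) * g⁻¹ by group,
        hy, mul_one, mul_inv_cancel]; rfl))
    (fun e => hne (by
      have h1 : g * y * g⁻¹ = 1 := by rw [← hx', e]; rfl
      simpa using h1))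
  have hval : ∀ {z : CC}, m * x * m⁻¹ = z → ((m : Th) * g) * y * ((m : Th) * g)⁻¹ = z := by
    rintro z rfl
    simp only [Subgroup.coe_mul, Subgroup.coe_inv, hx', mul_inv_rev, mul_assoc]
  rcases hm with e | e | e
  · exact ⟨_, hval e⟩
  · refine ⟨gG * ((m : Th) * g), ?_⟩
    have e' := hval e
    rw [show gG * ((m : Th) * g) * y * (gG * ((m : Th) * g))⁻¹ =
      gG * ((m : Th) * g * y * ((m : Th) * g)⁻¹) * gG⁻¹ by group, e',
      inv_eq_of_mul_eq_one_right (gG_sq h.inj)]
    show gG * gC * gG = gA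
    rw [← gG_conj h.inj, show gG * (gG * gA * gG) * gG = (gG * gG) * gA * (gG * gG) by group,
      gG_sq h.inj, one_mul, mul_one]
  · refine ⟨gH⁻¹ * ((m : Th) * g), ?_⟩
    have e' := hval e
    rw [show gH⁻¹ * ((m : Th) * g) * y * (gH⁻¹ * ((m : Th) * g))⁻¹ =
      gH⁻¹ * ((m : Th) * g * y * ((m : Th) * g)⁻¹) * gH by group, e']
    show gH⁻¹ * gD * gH = gA
    rw [← gH_conj h.inj]
    group

theorem Hyp.mem_CC (h : Hyp) {x : Th} : x ∈ CC ↔ x * gA = gA * x := by
  rw [← h.cent, Subgroup.mem_centralizer_singleton_iff]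

/-- an automorphism fixing `a` agrees with a conjugation on the centraliser -/
theorem Hyp.restrict (h : Hyp) (β : MulAut Th) (hb : β gA = gA) :
    ∃ k ∈ CC, ∀ x ∈ CC, β x = k * x * k⁻¹ := by
  have hmap : ∀ x : CC, β x ∈ CC := fun x => h.mem_CC.2 (by
    rw [← hb, ← map_mul, ← map_mul, h.mem_CC.1 x.2])
  have hinv : ∀ x : CC, β.symm x ∈ CC := fun x => h.mem_CC.2 (β.injective (by
    rw [map_mul, map_mul, MulEquiv.apply_symm_apply, hb]; exact h.mem_CC.1 x.2))
  let φ : MulAut CC :=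
    { toFun := fun x => ⟨β x, hmap x⟩
      invFun := fun x => ⟨β.symm x, hinv x⟩
      left_inv := fun x => Subtype.ext (by simp)
      right_inv := fun x => Subtype.ext (by simp)
      map_mul' := fun x y => Subtype.ext (map_mul β (x : Th) y) }
  obtain ⟨k, hk⟩ := h.ctx.aut_inner φ (Subtype.ext hb)
  exact ⟨k, k.2, fun x hx => congrArg Subtype.val (hk ⟨x, hx⟩)⟩

set_option maxRecDepth 100000 in
theorem sI_orbit : ∀ i : Fin 9, ∃ j : Fin 7, ∃ p ∈ ([0, 1, 2] : List (Fin 9)),
    (pL 3 ^ (j : ℕ)) p = i := by decide +kernel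

set_option maxRecDepth 100000 in
theorem se_facts : pL 3 0 = 0 ∧ pL 3 1 = 1 ∧ pL 2 0 = 0 ∧ pL 2 1 = 2 ∧
    (∀ x : Fin 9, pL 3 x = x → x = 0 ∨ x = 1) := by decide +kernel

set_option maxRecDepth 100000 in
theorem QQc_check : ∀ n < 512, (∀ m ∈ [1, 6, 12, 24, 48, 96, 192], qm n m = qm m n) →
    n = 0 ∨ n = 256 ∨ n = 1 ∨ n = 257 := by decide +kernel

set_option maxRecDepth 100000 in
theorem QQc_comm : ∀ m ∈ [1, 6, 12, 24, 48, 96, 192], m < 512 ∧ qm m 1 = qm 1 m := by
  decide +kernel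

/-- the centraliser in the centraliser of the centraliser of `c` there -/
theorem Ctx.cent_Cc (h : Ctx) {k : CC}
    (hk : ∀ x : CC, x * cg .c = cg .c * x → k * x = x * k) :
    k = 1 ∨ k = cg .a ∨ k = cg .c ∨ k = cg .a * cg .c := by
  have hS := hk (cg .s) H40.Th.SC
  have hE := hk (cg .e) H40.Th.EC
  have hp : piC k = 1 := by
    have cs : piC k * pL 3 = pL 3 * piC k := by
      have := congrArg piC hS
      rwa [map_mul, map_mul, show piC (cg .s) = pL 3 from piC_eC 3] at this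
    have ce : piC k * pL 2 = pL 2 * piC k := by
      have := congrArg piC hE
      rwa [map_mul, map_mul, show piC (cg .e) = pL 2 from piC_eC 2] at this
    obtain ⟨s0, s1, e0, e1, hfix⟩ := se_facts
    set σ := piC k with hσ
    have ap : ∀ {τ : Perm (Fin 9)}, σ * τ = τ * σ → ∀ i, σ (τ i) = τ (σ i) := fun e i =>
      Equiv.ext_iff.1 e i
    have k0 : σ 0 = 0 := by
      rcases hfix (σ 0) (by rw [← ap cs, s0]) with e | e
      · exact e
      · have h' := ap ce 0
        rw [e0, e, e1] at h'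
        exact absurd h' (by decide)
    have k1 : σ 1 = 1 := by
      rcases hfix (σ 1) (by rw [← ap cs, s1]) with e | e
      · exact absurd (σ.injective (e.trans k0.symm)) (by decide)
      · exact e
    have k2 : σ 2 = 2 := by
      have h' := ap ce 1
      rwa [e1, k1, e1] at h'
    refine Equiv.ext fun i => ?_
    obtain ⟨j, p, hp, rfl⟩ := sI_orbit i
    have hj : σ * pL 3 ^ (j : ℕ) = pL 3 ^ (j : ℕ) * σ :=
      ((show Commute σ (pL 3) from cs).pow_right _).eq
    rw [ap hj, Equiv.Perm.one_apply]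
    simp only [List.mem_cons, List.not_mem_nil, or_false] at hp
    rcases hp with rfl | rfl | rfl <;> simp [k0, k1, k2]
  obtain ⟨n, hn, rfl⟩ := h.vv_surj (piC_eq_one.1 hp)
  have hcm : ∀ m ∈ [1, 6, 12, 24, 48, 96, 192], qm n m = qm m n := by
    intro m hm
    obtain ⟨hm1, hm2⟩ := QQc_comm m hm
    have hc : vv m * cg .c = cg .c * vv m := by
      rw [← vv_one, ← vv_qm h.a_ne (by norm_num), ← vv_qm h.a_ne hm1, hm2]
    have e := hk (vv m) hc
    rw [← vv_qm h.a_ne hm1, ← vv_qm h.a_ne hn] at e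
    exact h.vv_inj (qm_lt hm1) (qm_lt hn) e
  rcases QQc_check n hn hcm with r | r | r | r <;> subst r
  · exact Or.inl vv_zero
  · exact Or.inr (Or.inl vv_256)
  · exact Or.inr (Or.inr (Or.inl vv_one))
  · refine Or.inr (Or.inr (Or.inr ?_))
    rw [show (257 : ℕ) = 1 ^^^ 256 from rfl, h.vv_add256 (by norm_num), vv_one]

/-- an automorphism fixing `CC` and its conjugate under `bacb` pointwise is the identity -/
theorem Hyp.eq_one (h : Hyp) (β : MulAut Th) (h1 : ∀ x ∈ CC, β x = x)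
    (h2 : ∀ x ∈ CC, β (gG * x * gG) = gG * x * gG) : β = 1 := by
  let F : Subgroup Th := β.toMonoidHom.eqLocus (MonoidHom.id Th)
  have hCF : CC ≤ F := fun x hx => h1 x hx
  have hm : ∀ x : Th.Gen, x ≠ .b → H40.Th.gen x ∈ CC := fun x hx => by
    rw [← cg_val hx]; exact (cg x).2
  set v : Th := gD * gU * gD with hv
  set w : Th := gG * v * gG with hw
  have hvC : v ∈ CC := mul_mem (mul_mem (hm _ (by decide)) (hm _ (by decide))) (hm _ (by decide))
  have hwF : w ∈ F := h2 v hvC
  have hgF : gG ∈ F := by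
    have ia : (gA)⁻¹ = gA := inv_eq_of_mul_eq_one_right (gen_sq (by decide) H40.Th.A_sq)
    have ic : (gC)⁻¹ = gC := inv_eq_of_mul_eq_one_right (gen_sq (by decide) H40.Th.C_sq)
    have id' : (gD)⁻¹ = gD := inv_eq_of_mul_eq_one_right (gen_sq (by decide) H40.Th.D_sq)
    have ie : (gE)⁻¹ = gE := inv_eq_of_mul_eq_one_right (gen_sq (by decide) H40.Th.E_sq)
    have ib : (gB)⁻¹ = gB := by
      have := H40.Th.rel_getD 1
      simp [Th.extra, pow_two] at this
      exact inv_eq_of_mul_eq_one_right this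
    have e := wval_one h.inj chk_gword
    have e' : (gE * gA)⁻¹ * w⁻¹ * (gU * gE)⁻¹ * v⁻¹ * w * gG = 1 := by
      simpa [w_gword, wval, gG, hw, hv, mul_assoc, mul_inv_rev, ia, ib, ic, id', ie] using e
    have : gG = ((gE * gA)⁻¹ * w⁻¹ * (gU * gE)⁻¹ * v⁻¹ * w)⁻¹ :=
      eq_inv_of_mul_eq_one_right e'
    rw [this]
    refine inv_mem (mul_mem (mul_mem (mul_mem (mul_mem ?_ (inv_mem hwF)) ?_) ?_) hwF)
    · exact inv_mem (hCF (mul_mem (hm _ (by decide)) (hm _ (by decide))))
    · exact inv_mem (hCF (mul_mem (hm _ (by decide)) (hm _ (by decide))))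
    · exact inv_mem (hCF hvC)
  have hHF : gH ∈ F := by
    have e : gH = gE * gC * gD * gU⁻¹ * gG * gD * gU⁻¹ * gE * gD * gG := by
      simp [gH, gG, mul_assoc]
    rw [e]
    have hF : ∀ x : Th.Gen, x ≠ .b → H40.Th.gen x ∈ F := fun x hx => hCF (hm x hx)
    refine mul_mem (mul_mem (mul_mem (mul_mem (mul_mem (mul_mem (mul_mem (mul_mem (mul_mem ?_ ?_)
      ?_) ?_) hgF) ?_) ?_) ?_) ?_) hgF
    all_goals first
      | exact hF _ (by decide)
      | exact inv_mem (hF _ (by decide))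
  have hbF : gB ∈ F := by
    have hbd : gB * gD = gD * gB := by
      have h8 := H40.Th.rel_getD 8
      have hb := H40.Th.rel_getD 1
      simp [Th.extra, pow_two] at h8 hb
      exact H40.Th.comm_of_sq hb (gen_sq (by decide) H40.Th.D_sq) (by rw [pow_two]; exact h8)
    rw [show gB = gH * (gH⁻¹ * gB * gH) * gH⁻¹ by group]
    refine mul_mem (mul_mem hHF (hCF (h.mem_CC.2 ?_))) (inv_mem hHF)
    rw [← gH_conj h.inj] at hbd
    calc gH⁻¹ * gB * gH * gA = gH⁻¹ * (gB * (gH * gA * gH⁻¹)) * gH := by group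
      _ = gA * (gH⁻¹ * gB * gH) := by rw [hbd]; group
  have htop : F = ⊤ := by
    rw [eq_top_iff, ← PresentedGroup.closure_range_of, Subgroup.closure_le]
    rintro _ ⟨x, rfl⟩
    cases x
    · exact hCF (hm .a (by decide))
    · exact hbF
    all_goals exact hCF (hm _ (by decide))
  exact MulEquiv.ext fun x => (htop ▸ Subgroup.mem_top x : x ∈ F)

/-- every automorphism is inner -/
theorem Hyp.inner (h : Hyp) (α : MulAut Th) : α ∈ Cfsg.Inn Th := by
  have hI := h.inj
  have hgg := gG_sq hI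
  have hga := gG_conj hI
  have hgi : gG⁻¹ = gG := inv_eq_of_mul_eq_one_right hgg
  have hgc : gG * gC * gG = gA := by
    rw [← hga, show gG * (gG * gA * gG) * gG = (gG * gG) * gA * (gG * gG) by group, hgg, one_mul,
      mul_one]
  have hA2 : gA * gA = 1 := gen_sq (by decide) H40.Th.A_sq
  have hAne : gA ≠ 1 := fun e => rm_a_ne (by rw [e]; exact H40.Th.rm_one)
  obtain ⟨g₀, hg₀⟩ := h.conj_a (y := α gA) (by rw [← map_mul, hA2, map_one])
    (fun e => hAne (α.injective (e.trans (map_one α).symm)))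
  obtain ⟨k₀, hk₀, hk⟩ := h.restrict (MulAut.conj g₀ * α)
    (by rw [MulAut.mul_apply, MulAut.conj_apply, hg₀])
  set β := MulAut.conj (k₀⁻¹ * g₀) * α with hβ
  have hfix : ∀ x ∈ CC, β x = x := by
    intro x hx
    have e : g₀ * α x * g₀⁻¹ = k₀ * x * k₀⁻¹ := hk x hx
    show k₀⁻¹ * g₀ * α x * (k₀⁻¹ * g₀)⁻¹ = x
    rw [show k₀⁻¹ * g₀ * α x * (k₀⁻¹ * g₀)⁻¹ = k₀⁻¹ * (g₀ * α x * g₀⁻¹) * k₀ by group, e]
    group
  have hcC : gC ∈ CC := by rw [← cg_val (g := .c) (by decide)]; exact (cg .c).2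
  have haC : gA ∈ CC := by rw [← cg_val (g := .a) (by decide)]; exact (cg .a).2
  set γ := MulAut.conj gG * β * MulAut.conj gG with hγ
  have hγ' : ∀ x, γ x = gG * β (gG * x * gG) * gG := fun x => by
    show gG * β (gG * x * gG⁻¹) * gG⁻¹ = _
    rw [hgi]
  obtain ⟨k, hkC, hkc⟩ := h.restrict γ (by rw [hγ', hga, hfix _ hcC, hgc])
  have hcent : (⟨k, hkC⟩ : CC) = 1 ∨ (⟨k, hkC⟩ : CC) = cg .a ∨ (⟨k, hkC⟩ : CC) = cg .c ∨
      (⟨k, hkC⟩ : CC) = cg .a * cg .c := by
    refine h.ctx.cent_Cc fun x hx => Subtype.ext ?_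
    have hx' : (x : Th) * gC = gC * x := by
      rw [← cg_val (g := .c) (by decide), ← Subgroup.coe_mul, hx]; rfl
    have hgx : gG * x * gG ∈ CC := h.mem_CC.2 (by
      rw [← hgc, show gG * (x : Th) * gG * (gG * gC * gG) = gG * x * (gG * gG) * gC * gG by group,
        hgg, mul_one, mul_assoc gG (x : Th) gC, hx',
        show gG * gC * gG * (gG * x * gG) = gG * gC * (gG * gG) * x * gG by group, hgg, mul_one]
      simp only [mul_assoc])
    have e := hkc x x.2
    rw [hγ', hfix _ hgx, show gG * (gG * (x : Th) * gG) * gG = (gG * gG) * x * (gG * gG) by group,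
      hgg, one_mul, mul_one] at e
    exact (eq_mul_inv_iff_mul_eq.1 e).symm
  -- the correction
  obtain ⟨m, hm, hβ'⟩ : ∃ m, (m = 1 ∨ m = gA) ∧
      ∀ x ∈ CC, β (gG * x * gG) = m * (gG * x * gG) * m := by
    have key : ∀ x ∈ CC, β (gG * x * gG) = gG * (k * x * k⁻¹) * gG := fun x hx => by
      rw [← hkc x hx, hγ', show gG * (gG * β (gG * x * gG) * gG) * gG =
        (gG * gG) * β (gG * x * gG) * (gG * gG) by group, hgg, one_mul, mul_one]
    have hca : ∀ x ∈ CC, x * gA = gA * x := fun x hx => h.mem_CC.1 hx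
    have hc2 : gC⁻¹ = gC := inv_eq_of_mul_eq_one_right (gen_sq (by decide) H40.Th.C_sq)
    have hc' : ∀ x, gG * (gC * x * gC) * gG = gA * (gG * x * gG) * gA := fun x => by
      rw [← hgc]
      calc gG * (gC * x * gC) * gG = gG * gC * (gG * gG) * x * (gG * gG) * gC * gG := by
            rw [hgg]; group
        _ = _ := by group
    rcases hcent with r | r | r | r <;> have r' := congrArg Subtype.val r <;> dsimp only at r'
    · exact ⟨1, Or.inl rfl, fun x hx => by
        rw [key x hx, r', show ((1 : CC) : Th) = 1 from rfl, one_mul, inv_one, mul_one, one_mul,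
          mul_one]⟩
    · exact ⟨1, Or.inl rfl, fun x hx => by
        rw [key x hx, r', cg_val (by decide), ← hca x hx, mul_inv_cancel_right, one_mul, mul_one]⟩
    · exact ⟨gA, Or.inr rfl, fun x hx => by
        rw [key x hx, r', cg_val (by decide), hc2, hc']⟩
    · exact ⟨gA, Or.inr rfl, fun x hx => by
        rw [key x hx, r', Subgroup.coe_mul, cg_val (by decide), cg_val (by decide), mul_inv_rev,
          show gA * gC * x * (gC⁻¹ * gA⁻¹) = gA * (gC * x * gC⁻¹) * gA⁻¹ by group,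
          ← hca _ (mul_mem (mul_mem hcC hx) (inv_mem hcC)), mul_inv_cancel_right, hc2, hc']⟩
  have hmem : MulAut.conj m * β = 1 := by
    refine h.eq_one _ (fun x hx => ?_) (fun x hx => ?_)
    · rw [MulAut.mul_apply, hfix x hx, MulAut.conj_apply]
      rcases hm with rfl | rfl
      · simp
      · rw [← h.mem_CC.1 hx, mul_inv_cancel_right]
    · rw [MulAut.mul_apply, hβ' x hx, MulAut.conj_apply]
      rcases hm with rfl | rfl
      · simp
      · rw [show gA * (gA * (gG * x * gG) * gA) * gA⁻¹ = (gA * gA) * (gG * x * gG) by group, hA2,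
          one_mul]
  rw [hβ, ← mul_assoc, ← map_mul] at hmem
  rw [eq_inv_of_mul_eq_one_right hmem]
  exact inv_mem ⟨_, rfl⟩

/-- the outer automorphism group is trivial -/
theorem Hyp.card_out (h : Hyp) : Nat.card (Cfsg.Out Th) = 1 := by
  show (Cfsg.Inn Th).index = 1
  rw [Subgroup.index_eq_one]
  exact eq_top_iff.2 fun α _ => h.inner α

end Cfsg.Agent.H83.ThOut
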