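import Cfsg.Agent.H83.ThOut.Images

/-!
The map of the involution centraliser onto the alternating group of degree nine, the codes of the
normal 2-subgroup, and the action of words on the codes.
-/

set_option autoImplicit false

namespace Cfsg.Agent.H83.ThOut

open Cfsg.Spor Cfsg.Agent.H32 ThRep
open Cfsg.Agent.H40.Th (CC cg QQ)
open Cfsg.Agent.H45 (evalW sig)

attribute [local irreducible] ThRep.gm ThRep.gi ThRep.mat ThRep.rep248 ThRep.chk ThRep.okMat
  ThRep.idN

/-- what is used about the involution centraliser -/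
structure Ctx : Prop where
  inj : Inj
  card : Nat.card CC = 92897280

theorem Ctx.finite (h : Ctx) : Finite CC := Nat.finite_of_card_ne_zero (by rw [h.card]; norm_num)

set_option maxRecDepth 100000 in
theorem ent_a : Nat.beq (ent 248 (gm Th.Gen.a) 120 120 % 3) 1 = false := by decide +kernel

theorem Ctx.a_ne (_h : Ctx) : cg Th.Gen.a ≠ 1 := by
  intro he
  have h1 : H40.Th.rm (H40.Th.gen .a) = 1 := by
    rw [← cg_val (g := .a) (by decide), he]
    exact H40.Th.rm_one
  rw [H40.Th.rm_gen] at h1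
  have h2 := congrFun (congrFun h1 (120 : Fin 248)) 120
  rw [show ∀ X : ℕ, ∀ i j : Fin 248, mat 248 X i j = (ent 248 X i j : ZMod 3) from
      fun X i j => by unfold ThRep.mat; rfl, Matrix.one_apply_eq,
    ← Nat.cast_one (R := ZMod 3), ZMod.natCast_eq_natCast_iff'] at h2
  have h3 : Nat.beq (ent 248 (gm Th.Gen.a) 120 120 % 3) 1 = true := by
    rw [Nat.beq_eq]; exact h2
  rw [ent_a] at h3
  exact Bool.noConfusion h3

theorem Ctx.frame (h : Ctx) : Frame qv (cg .a) := ThOut.frame h.a_ne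

theorem Ctx.card_QQ (h : Ctx) : Nat.card QQ = 512 :=
  (H40.Th.card_QQ H40.Th.QQ_ne_top h.card)

theorem Ctx.vv_surj (h : Ctx) {x : CC} (hx : x ∈ QQ) : ∃ n < 512, x = vv n := by
  have := h.finite
  have hl := H40.Th.local_rels h.a_ne
  have hle : hl.K ≤ QQ := by
    refine (Subgroup.closure_le _).mpr ?_
    rintro _ ⟨i, rfl⟩
    obtain ⟨g, -, hg⟩ := hl.q_conj i
    simp only [SetLike.mem_coe, hg]
    simpa using Subgroup.Normal.conj_mem (inferInstance : QQ.Normal) _ H40.Th.C_mem g⁻¹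
  have hK : hl.K = QQ := Subgroup.eq_of_le_of_card_ge hle (by rw [h.card_QQ]; exact hl.card_K_ge)
  rw [← hK] at hx
  have hq : ∀ i : Fin 8, hl.q i = qv i := by
    intro i
    exact (qv_eq h.a_ne i i.2).symm
  induction hx using Subgroup.closure_induction_left with
  | one => exact ⟨0, by norm_num, vv_zero.symm⟩
  | mul_left x hx y _ ih =>
    obtain ⟨i, rfl⟩ := hx
    obtain ⟨n, hn, rfl⟩ := ih
    exact ⟨lmulN i n, (lmulN_spec n hn i i.2).1, by
      show hl.q i * vv n = _
      rw [hq, vv, vv, val_lmulN h.frame i.2 hn]⟩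
  | inv_mul_cancel x hx y _ ih =>
    obtain ⟨i, rfl⟩ := hx
    obtain ⟨n, hn, rfl⟩ := ih
    refine ⟨lmulN i n, (lmulN_spec n hn i i.2).1, ?_⟩
    show (hl.q i)⁻¹ * vv n = _
    rw [hq, vv, vv, val_lmulN h.frame i.2 hn, inv_eq_of_mul_eq_one_right (h.frame.sq i i.2)]

theorem Ctx.vv_inj (h : Ctx) {n m : ℕ} (hn : n < 512) (hm : m < 512) (e : vv n = vv m) : n = m := by
  have := h.finite
  let f : Fin 512 → QQ := fun k => ⟨vv k, vv_mem_QQ h.a_ne k⟩
  have hs : Function.Surjective f := by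
    rintro ⟨x, hx⟩
    obtain ⟨k, hk, rfl⟩ := h.vv_surj hx
    exact ⟨⟨k, hk⟩, rfl⟩
  have hb : Function.Bijective f :=
    (Nat.bijective_iff_surjective_and_card f).mpr ⟨hs, by rw [h.card_QQ, Nat.card_fin]⟩
  have := hb.1 (show f ⟨n, hn⟩ = f ⟨m, hm⟩ from Subtype.ext e)
  exact congrArg Fin.val this

/-- value of a word in `c, d, e, s, t, u` -/
def eW (w : List ℕ) : CC := evalW eC w

/-- action of a word on codes -/
def actW (w : List ℕ) (n : ℕ) : ℕ := w.foldl (fun m l => act (img (min l 5)) m) n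

theorem eC_min (l : ℕ) : eC (min l 5) = eC l := by
  rcases Nat.lt_or_ge l 5 with h | h
  · rw [Nat.min_eq_left h.le]
  · rw [Nat.min_eq_right h]
    obtain ⟨k, rfl⟩ : ∃ k, l = k + 5 := ⟨l - 5, by omega⟩
    rfl

set_option maxRecDepth 100000 in
theorem img_c_spec : ∀ i < 8, qm (qm 1 (2 ^ i)) 1 = (img 0).getD i 0 := by decide +kernel

theorem vv_pow {i : ℕ} (hi : i < 8) : vv (2 ^ i) = qv i := by
  interval_cases i <;> simp [vv, val, sg, valL, toL, List.range_succ, Nat.testBit]

theorem Ctx.conj_img (h : Ctx) {l : ℕ} (hl : l < 6) {i : ℕ} (hi : i < 8) :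
    (eC l)⁻¹ * qv i * eC l = vv ((img l).getD i 0) := by
  interval_cases l
  · have hp : (2 : ℕ) ^ i < 512 := lt_of_lt_of_le (Nat.pow_lt_pow_right (by norm_num) hi) (by norm_num)
    rw [← img_c_spec i hi, vv_qm h.a_ne (by norm_num), vv_qm h.a_ne hp, vv_pow hi, vv_one]
    show (cg Th.Gen.c)⁻¹ * qv i * cg .c = _
    rw [inv_eq_of_mul_eq_one_right H40.Th.C_sq]
  · exact img_d h.inj h.a_ne i hi
  · exact img_e h.inj h.a_ne i hi
  · exact img_s h.inj h.a_ne i hi
  · exact img_t h.inj h.a_ne i hi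
  · exact img_u h.inj h.a_ne i hi

theorem Ctx.vv_act (h : Ctx) {l : ℕ} (hl : l < 6) (n : ℕ) :
    vv (act (img l) n) = (eC l)⁻¹ * vv n * eC l :=
  val_act h.frame (by rw [mul_assoc, ← H40.Th.A_central, inv_mul_cancel_left])
    (fun i hi => h.conj_img hl hi) n

theorem Ctx.vv_actW (h : Ctx) : ∀ (w : List ℕ) (n : ℕ),
    vv (actW w n) = (eW w)⁻¹ * vv n * eW w := by
  intro w
  induction w with
  | nil => intro n; simp [actW, eW, evalW]
  | cons l w ih =>
    intro n
    have hd : actW (l :: w) n = actW w (act (img (min l 5)) n) := rfl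
    rw [hd, ih, h.vv_act (by omega), eC_min]
    simp only [eW, H45.evalW_cons]
    group

theorem actW_lt : ∀ (w : List ℕ) {n : ℕ}, n < 512 → actW w n < 512 := by
  intro w
  induction w with
  | nil => intro n hn; exact hn
  | cons l w ih =>
    intro n _
    exact ih (act_lt (img_lt _ (by omega)) _)

/-- the isomorphism of the quotient with the presented alternating group -/
theorem fromQ7_bijective : Function.Bijective H40.Th.fromQ7 := by
  refine ⟨?_, H40.Th.fromQ7_surjective⟩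
  haveI := H40.Th.isSimple_Q7
  rcases (inferInstance : H40.Th.fromQ7.ker.Normal).eq_bot_or_eq_top with h | h
  · exact (MonoidHom.ker_eq_bot_iff _).mp h
  · exfalso
    refine H40.Th.QQ_ne_top (eq_top_iff.mpr fun x _ => ?_)
    obtain ⟨p, hp⟩ := H40.Th.fromQ7_surjective (QuotientGroup.mk' QQ x)
    have : p ∈ H40.Th.fromQ7.ker := h ▸ Subgroup.mem_top p
    rw [MonoidHom.mem_ker] at this
    exact (QuotientGroup.eq_one_iff x).mp (hp.symm.trans this)

/-- the action on nine points -/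
noncomputable def piC : CC →* Equiv.Perm (Fin 9) :=
  (H40.Th.psi.comp (MulEquiv.ofBijective _ fromQ7_bijective).symm.toMonoidHom).comp
    (QuotientGroup.mk' QQ)

theorem piC_eq_one {x : CC} : piC x = 1 ↔ x ∈ QQ := by
  rw [piC, MonoidHom.comp_apply, MonoidHom.comp_apply, map_eq_one_iff _ H40.Th.psi_injective,
    MulEquiv.coe_toMonoidHom, map_eq_one_iff _ (MulEquiv.injective _),
    QuotientGroup.mk'_apply, QuotientGroup.eq_one_iff]

theorem piC_range : piC.range = alternatingGroup (Fin 9) := by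
  rw [piC, MonoidHom.range_comp, MonoidHom.range_eq_top.2 (QuotientGroup.mk'_surjective QQ),
    ← MonoidHom.range_eq_map, MonoidHom.range_comp,
    MonoidHom.range_eq_top.2 (MulEquiv.surjective _), ← MonoidHom.range_eq_map, H40.Th.psi_range]

theorem piC_gen {x : CC} {l : ℕ} (hl : l < 7) (hx : QuotientGroup.mk' QQ x = H40.Th.e7Q l) :
    piC x = sig H40.Th.T9 l := by
  rw [piC, MonoidHom.comp_apply, MonoidHom.comp_apply, hx, MulEquiv.coe_toMonoidHom]
  have h : (MulEquiv.ofBijective _ fromQ7_bijective).symm (H40.Th.e7Q l) = H40.Th.e7 l := by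
    rw [MulEquiv.symm_apply_eq, MulEquiv.ofBijective_apply]
    simp only [H40.Th.e7, H40.Th.fl, dif_pos hl]
    show H40.Th.e7Q l = H40.Th.fromQ7 (PresentedGroup.of ⟨l, hl⟩)
    unfold H40.Th.fromQ7
    rw [PresentedGroup.toGroup.of]
  rw [h, H40.Th.psi_e7]

/-- the permutation of a letter -/
noncomputable def pL : ℕ → Equiv.Perm (Fin 9)
  | 0 => 1
  | 1 => sig H40.Th.T9 0
  | 2 => sig H40.Th.T9 1
  | 3 => sig H40.Th.T9 2
  | 4 => sig H40.Th.T9 4
  | _ => sig H40.Th.T9 6

theorem piC_eC : ∀ l, piC (eC l) = pL l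
  | 0 => piC_eq_one.2 H40.Th.C_mem
  | 1 => piC_gen (by norm_num) rfl
  | 2 => piC_gen (by norm_num) rfl
  | 3 => piC_gen (by norm_num) rfl
  | 4 => piC_gen (by norm_num) rfl
  | _ + 5 => piC_gen (by norm_num) rfl

theorem piC_eW (w : List ℕ) : piC (eW w) = evalW pL w := by
  induction w with
  | nil => simp [eW, evalW]
  | cons l w ih =>
    simp only [eW, H45.evalW_cons] at ih ⊢
    rw [map_mul, ih, piC_eC]

end Cfsg.Agent.H83.ThOut
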